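import Groth.Agent.Curves.K323.NormUniv
import Groth.Agent.S1535
import Groth.Agent.S2821
import Mathlib.AlgebraicGeometry.Geometrically.Irreducible
import Mathlib.RingTheory.UniqueFactorizationDomain.GCDMonoid
import Mathlib.RingTheory.Polynomial.RationalRoot

/-!
# Base change of isomorphism loci; normal schemes smooth over a field
-/

set_option autoImplicit false
universe u
open CategoryTheory CategoryTheory.Limits AlgebraicGeometry TopologicalSpace Opposite

namespace Groth.Agent.Curves.K323.NormBC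

/-- The isomorphism locus is compatible with base change. -/
theorem isIso_restrict {P X Y Z : Scheme.{u}} {a : P ⟶ X} {p : P ⟶ Y} {f : X ⟶ Z} {q : Y ⟶ Z}
    (h : IsPullback a p f q) (V : Z.Opens) [IsIso (f ∣_ V)] : IsIso (p ∣_ (q ⁻¹ᵁ V)) := by
  have h1 : IsPullback (p ⁻¹ᵁ (q ⁻¹ᵁ V)).ι (p ∣_ (q ⁻¹ᵁ V)) p (q ⁻¹ᵁ V).ι :=
    (isPullback_morphismRestrict p (q ⁻¹ᵁ V)).flip
  have h2 : IsPullback (f ⁻¹ᵁ V).ι (f ∣_ V) f V.ι := (isPullback_morphismRestrict f V).flip
  have h3 := h1.paste_horiz h
  rw [← morphismRestrict_ι] at h3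
  have h4 := IsPullback.of_right' h3 h2
  exact (MorphismProperty.isomorphisms Scheme.{u}).of_isPullback h4
    (inferInstanceAs (IsIso (f ∣_ V)))

theorem isNormalScheme_of_smooth {k : Type u} [Field k] {X : Scheme.{u}}
    (f : X ⟶ Spec (CommRingCat.of k)) [Smooth f] : Pi1.IsNormalScheme X := by
  let _ : X.Over (Spec (CommRingCat.of k)) := ⟨f⟩
  have : Smooth (X ↘ (Spec (CommRingCat.of k))) := inferInstanceAs (Smooth f)
  intro x
  have h := S1535.result k X x
  obtain ⟨h1, h2⟩ := S2821.result (X.presheaf.stalk x)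
  exact ⟨h1, inferInstance⟩

theorem isReduced_of_smooth {k : Type u} [Field k] {X : Scheme.{u}}
    (f : X ⟶ Spec (CommRingCat.of k)) [Smooth f] : IsReduced X := by
  have h := isNormalScheme_of_smooth f
  have : ∀ x : X, _root_.IsReduced (X.presheaf.stalk x) := fun x => by
    have := (h x).1
    infer_instance
  exact isReduced_of_isReduced_stalk X

/-- An open set which is isomorphic to an irreducible scheme is irreducible. -/
theorem irreducibleSpace_of_restrict {P Y : Scheme.{u}} (p : P ⟶ Y) (W : Y.Opens)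
    (hW : (W : Set Y).Nonempty) [IrreducibleSpace Y] [IsIso (p ∣_ W)] (hd : Dense ((p ⁻¹ᵁ W : P.Opens) : Set P)) :
    IrreducibleSpace P := by
  have h1 : IrreducibleSpace W := Subtype.irreducibleSpace
    ⟨hW, (PreirreducibleSpace.isPreirreducible_univ (X := Y)).open_subset W.isOpen (Set.subset_univ _)⟩
  have h2 : IrreducibleSpace ↥(p ⁻¹ᵁ W) := (p ∣_ W).homeomorph.irreducibleSpace_iff.mpr h1
  have h3 : IsIrreducible ((p ⁻¹ᵁ W : P.Opens) : Set P) :=
    ⟨by
      obtain ⟨z⟩ := h2.toNonempty
      exact ⟨z.1, z.2⟩, IsPreirreducible.of_subtype⟩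
  have h4 := h3.closure
  rw [hd.closure_eq] at h4
  exact (irreducibleSpace_def P).mpr h4

/-- A morphism from a reduced scheme factors through the reduction; the factorization is a base change. -/
theorem exists_isPullback_nilradical {P Y : Scheme.{u}} [IsReduced P] (p : P ⟶ Y) :
    ∃ g : P ⟶ Y.nilradical.subscheme, g ≫ Y.nilradical.subschemeι = p ∧
      IsPullback g (𝟙 P) Y.nilradical.subschemeι p := by
  have hs : Surjective Y.nilradical.subschemeι := by
    refine ⟨Set.range_eq_univ.mp ?_⟩
    rw [Scheme.IdealSheafData.range_subschemeι, Scheme.support_nilradical]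
    rfl
  have hi : IsIso (pullback.snd Y.nilradical.subschemeι p) :=
    isIso_of_isClosedImmersion_of_surjective _
  refine ⟨inv (pullback.snd Y.nilradical.subschemeι p) ≫ pullback.fst _ _, ?_, ?_⟩
  · rw [Category.assoc, pullback.condition, IsIso.inv_hom_id_assoc]
  · refine (IsPullback.of_hasPullback Y.nilradical.subschemeι p).of_iso
      (asIso (pullback.snd Y.nilradical.subschemeι p)) (Iso.refl _) (Iso.refl _) (Iso.refl _) ?_ ?_ ?_ ?_
    · simp
    · simp
    · simp
    · simp

end Groth.Agent.Curves.K323.NormBC
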