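import Groth.Agent.CurvesA.DimOne
import Groth.Agent.Ega2.SmoothBdry
import Groth.Agent.CurvesB.SmoothCurveFacts

/-!
# Points of integral regular curves over a perfect field
-/

set_option autoImplicit false
universe u
open CategoryTheory CategoryTheory.Limits AlgebraicGeometry TopologicalSpace Opposite

namespace Groth.Agent.Curves.K323.CurvePts

/-- In an integral scheme of dimension at most one the points different from the generic point are closed. -/
theorem isClosed_of_ne (X : Scheme.{u}) [IsIntegral X] (hdim : topologicalKrullDim X ≤ 1) (x : X)
    (hx : x ≠ genericPoint X) : IsClosed ({x} : Set X) := by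
  let Z : TopologicalSpace.IrreducibleCloseds X :=
    ⟨closure {x}, isIrreducible_singleton.closure, isClosed_closure⟩
  let W : TopologicalSpace.IrreducibleCloseds X :=
    ⟨closure {genericPoint X}, isIrreducible_singleton.closure, isClosed_closure⟩
  have hle : Z ≤ W := by
    intro y _
    change y ∈ closure {genericPoint X}
    rw [genericPoint_closure]
    trivial
  have hlt : Z < W := by
    refine lt_of_le_of_ne hle fun h => hx ?_
    have h1 : closure {x} = closure {genericPoint X} :=
      congrArg (fun T : TopologicalSpace.IrreducibleCloseds X => (T : Set X)) h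
    exact (inseparable_iff_closure_eq.2 h1).eq
  have h2 := Groth.Agent.CurvesA.DimOne.subsingleton_of_lt hdim hlt
  have h3 : closure {x} = ({x} : Set X) :=
    h2.eq_singleton_of_mem (subset_closure (Set.mem_singleton x))
  rw [← h3]
  exact isClosed_closure

/-- The generic point of an integral scheme of dimension one is not closed. -/
theorem ne_genericPoint (X : Scheme.{u}) [IsIntegral X] (hdim : topologicalKrullDim X = 1) (x : X)
    (hx : IsClosed ({x} : Set X)) : x ≠ genericPoint X := by
  rintro rfl
  have h1 : ({genericPoint X} : Set X) = Set.univ := by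
    rw [← hx.closure_eq, genericPoint_closure]
  have : Subsingleton X := ⟨fun a b => by
    have ha : a ∈ ({genericPoint X} : Set X) := by rw [h1]; trivial
    have hb : b ∈ ({genericPoint X} : Set X) := by rw [h1]; trivial
    rw [Set.mem_singleton_iff.mp ha, Set.mem_singleton_iff.mp hb]⟩
  have h2 : topologicalKrullDim X ≤ 0 := by
    rw [topologicalKrullDim, Order.krullDim_nonpos_iff_forall_isMax]
    intro Z W _
    rintro y hy
    obtain ⟨z, hz⟩ := Z.isIrreducible.1
    rw [Subsingleton.elim y z]
    exact hz
  rw [hdim] at h2
  exact absurd h2 (by decide)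

/-- Every nonempty open subset of a scheme locally of finite type over a field has a point closed in the scheme. -/
theorem exists_closed_mem (k : Type u) [Field k] (X : Scheme.{u}) [X.Over (Spec (CommRingCat.of k))]
    [LocallyOfFiniteType (X ↘ (Spec (CommRingCat.of k)))] (U : X.Opens) (hU : (U : Set X).Nonempty) :
    ∃ x ∈ U, IsClosed ({x} : Set X) := by
  have : JacobsonSpace X := LocallyOfFiniteType.jacobsonSpace (X ↘ (Spec (CommRingCat.of k)))
  obtain ⟨x, hx, hc⟩ := (jacobsonSpace_iff_locallyClosed.mp this) (U : Set X) hU
    U.isOpen.isLocallyClosed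
  exact ⟨x, hx, hc⟩

/-- Over a perfect field, the local rings of a regular integral curve at the closed points are discrete
valuation rings. -/
theorem isDVR (k : Type u) [Field k] [PerfectField k] (X : Scheme.{u}) [X.Over (Spec (CommRingCat.of k))]
    [IsIntegral X] [LocallyOfFiniteType (X ↘ (Spec (CommRingCat.of k)))]
    (hdim : topologicalKrullDim X ≤ 1) (hreg : ∀ x : X, IsRegularLocalRing (X.presheaf.stalk x))
    (x : X) (hx : x ≠ genericPoint X) : IsDiscreteValuationRing (X.presheaf.stalk x) := by
  have := Ega2.SmoothBdry.smooth_of_regular (X ↘ (Spec (CommRingCat.of k))) hreg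
  exact CurvesB.SmoothCurveFacts.isDiscreteValuationRing_stalk (X ↘ (Spec (CommRingCat.of k))) hdim hx

end Groth.Agent.Curves.K323.CurvePts
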