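import Groth.Agent.CurvesB.SubPoint
import Groth.Agent.CurvesB.OmegaInv
import Groth.Agent.VarietyB.DegCartier
import Groth.Agent.CycB.StalkExact
import Groth.Agent.Fdesc.StructMod
import Mathlib.RingTheory.DiscreteValuationRing.Basic

/-!
# The ideal of a closed point

`X` a scheme, `x` a closed point, `pt x` the ideal sheaf of the reduced point.
* `ker_stalk`: the kernel of `O_x → (O/I)_x` is the maximal ideal;
* `isInvertible_ptMod`: the ideal is invertible if `X` is locally Noetherian and `O_x` is a DVR.
-/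

set_option autoImplicit false
universe u
open CategoryTheory CategoryTheory.Limits AlgebraicGeometry TopologicalSpace Opposite

namespace Groth.Agent.Curves.K323.PtIdeal

open Groth.Agent.CycB.StalkExact Groth.Agent.CurvesB Groth.Agent.VarietyA.StalkCrit

variable {X : Scheme.{u}}

/-- The ideal sheaf of a reduced closed point. -/
noncomputable abbrev pt (x : X) (hx : IsClosed ({x} : Set X)) : X.IdealSheafData :=
  Scheme.IdealSheafData.vanishingIdeal ⟨{x}, hx⟩

theorem range_pt (x : X) (hx : IsClosed ({x} : Set X)) : Set.range (pt x hx).subschemeι = {x} := by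
  erw [Scheme.IdealSheafData.range_subschemeι]
  rw [Scheme.IdealSheafData.coe_support_vanishingIdeal]
  rfl

/-- `O/I` is concentrated at the point. -/
theorem subsingleton_stalk (x : X) (hx : IsClosed ({x} : Set X)) (y : X) (hy : y ≠ x) :
    Subsingleton ((ClSub.quotMod (pt x hx)).presheaf.stalk y) :=
  SubClosed.subsingleton_stalk_push _ _ y (by rw [range_pt]; exact hy)

theorem aux_pt {x : X} (J : X.IdealSheafData) (hr : Set.range J.subschemeι = {x})
    (hred : IsReduced J.subscheme) :
    ∃ y : J.subscheme, J.subschemeι y = x ∧ IsField (J.subscheme.presheaf.stalk y) := by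
  obtain ⟨y, hy⟩ : x ∈ Set.range J.subschemeι := by rw [hr]; rfl
  refine ⟨y, hy, ?_⟩
  have hall : ∀ y' : J.subscheme, J.subschemeι y' = J.subschemeι y := fun y' => by
    have : J.subschemeι y' ∈ ({x} : Set X) := by rw [← hr]; exact ⟨y', rfl⟩
    rw [hy]
    exact this
  have hgen : SubH1.IsGen y := fun y' _ => J.subschemeι.isClosedEmbedding.injective (hall y')
  exact GenStalk.isField_stalk y hgen

theorem aux_smul {x : X} (J : X.IdealSheafData) (hr : Set.range J.subschemeι = {x})
    (hred : IsReduced J.subscheme) (a : X.presheaf.stalk x)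
    (ha : a ∈ IsLocalRing.maximalIdeal (X.presheaf.stalk x))
    (t : (ClSub.quotMod J).presheaf.stalk x) : a • t = 0 := by
  obtain ⟨y, rfl, hf⟩ := aux_pt J hr hred
  exact SubPoint.smul_stalk_push_eq_zero J.subschemeι _ y hf a ha t

/-- The maximal ideal kills the stalk of `O/I` at the point. -/
theorem smul_stalk (x : X) (hx : IsClosed ({x} : Set X)) (a : X.presheaf.stalk x)
    (ha : a ∈ IsLocalRing.maximalIdeal (X.presheaf.stalk x))
    (t : (ClSub.quotMod (pt x hx)).presheaf.stalk x) : a • t = 0 :=
  aux_smul (pt x hx) (range_pt x hx) (Ega1.ReducedSub.isReduced_subscheme_vanishingIdeal _) a ha t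

theorem aux_nontrivial {x : X} (J : X.IdealSheafData) (hr : Set.range J.subschemeι = {x})
    (hred : IsReduced J.subscheme) : Nontrivial ((ClSub.quotMod J).presheaf.stalk x) := by
  obtain ⟨y, rfl, hf⟩ := aux_pt J hr hred
  have h1 := Ega1.ClosedUnit.pushAdd_bijective J.subschemeι
    J.subschemeι.isClosedEmbedding.isInducing (Coh.structureModule J.subscheme) y
  have h2 : Nontrivial ((Coh.structureModule J.subscheme).presheaf.stalk y) :=
    (Fdesc.StructMod.stalkEquiv y).symm.toEquiv.nontrivial
  exact (Equiv.ofBijective _ h1).nontrivial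

theorem nontrivial_stalk (x : X) (hx : IsClosed ({x} : Set X)) :
    Nontrivial ((ClSub.quotMod (pt x hx)).presheaf.stalk x) :=
  aux_nontrivial (pt x hx) (range_pt x hx) (Ega1.ReducedSub.isReduced_subscheme_vanishingIdeal _)

/-- The kernel of `O_x → (O/I)_x` is the maximal ideal. -/
theorem ker_stalk (x : X) (hx : IsClosed ({x} : Set X)) :
    LinearMap.ker ((stalkLin (ClSub.toSubscheme (pt x hx)) x) ∘ₗ
      (Fdesc.StructMod.stalkEquiv x).toLinearMap) =
      IsLocalRing.maximalIdeal (X.presheaf.stalk x) := by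
  symm
  refine (IsLocalRing.maximalIdeal.isMaximal (X.presheaf.stalk x)).eq_of_le ?_ ?_
  · intro h
    have := nontrivial_stalk x hx
    obtain ⟨t, ht⟩ := exists_ne (0 : (ClSub.quotMod (pt x hx)).presheaf.stalk x)
    obtain ⟨s, rfl⟩ := stalkLin_surjective (ClSub.toSubscheme (pt x hx)) x t
    obtain ⟨a, rfl⟩ := (Fdesc.StructMod.stalkEquiv x).surjective s
    apply ht
    have : a ∈ LinearMap.ker ((stalkLin (ClSub.toSubscheme (pt x hx)) x) ∘ₗ
      (Fdesc.StructMod.stalkEquiv x).toLinearMap) := by
      rw [h]; trivial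
    exact this
  · intro a ha
    rw [LinearMap.mem_ker]
    have := map_smul ((stalkLin (ClSub.toSubscheme (pt x hx)) x) ∘ₗ
      (Fdesc.StructMod.stalkEquiv x).toLinearMap) a 1
    rw [smul_eq_mul, mul_one] at this
    rw [this]
    exact smul_stalk x hx a ha _

/-- The stalk of the ideal at the point is the maximal ideal. -/
theorem nonempty_stalk_equiv (x : X) (hx : IsClosed ({x} : Set X)) :
    Nonempty ((ClSub.idealMod (pt x hx)).presheaf.stalk x ≃ₗ[X.presheaf.stalk x]
      IsLocalRing.maximalIdeal (X.presheaf.stalk x)) := by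
  obtain ⟨h1, h2, h3⟩ := stalkLin_shortExact _ (VarietyB.DegCartier.idealSeq_shortExact (pt x hx)) x
  let e := Fdesc.StructMod.stalkEquiv x
  let f : (ClSub.idealMod (pt x hx)).presheaf.stalk x →ₗ[X.presheaf.stalk x] X.presheaf.stalk x :=
    e.symm.toLinearMap ∘ₗ stalkLin (ClSub.idealModι (pt x hx)) x
  have hf : Function.Injective f := e.symm.injective.comp h1
  have hr : LinearMap.range f = IsLocalRing.maximalIdeal (X.presheaf.stalk x) := by
    rw [← ker_stalk x hx]
    ext a
    constructor
    · rintro ⟨s, rfl⟩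
      rw [LinearMap.mem_ker]
      have : e (f s) = stalkLin (ClSub.idealModι (pt x hx)) x s := e.apply_symm_apply _
      change stalkLin (ClSub.toSubscheme (pt x hx)) x (e (f s)) = 0
      rw [this]
      exact (h2 _).mpr ⟨s, rfl⟩
    · intro ha
      obtain ⟨s, hs⟩ := (h2 (e a)).mp ha
      refine ⟨s, ?_⟩
      change e.symm (stalkLin (ClSub.idealModι (pt x hx)) x s) = a
      erw [hs]
      exact e.symm_apply_apply a
  exact ⟨(LinearEquiv.ofInjective f hf).trans (LinearEquiv.ofEq _ _ hr)⟩

/-- Off the point the ideal is the structure sheaf. -/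
theorem nonempty_stalk_equiv_of_ne (x : X) (hx : IsClosed ({x} : Set X)) (y : X) (hy : y ≠ x) :
    Nonempty ((ClSub.idealMod (pt x hx)).presheaf.stalk y ≃ₗ[X.presheaf.stalk y]
      X.presheaf.stalk y) := by
  obtain ⟨h1, h2, h3⟩ := stalkLin_shortExact _ (VarietyB.DegCartier.idealSeq_shortExact (pt x hx)) y
  have := subsingleton_stalk x hx y hy
  have hs : Function.Surjective (stalkLin (ClSub.idealModι (pt x hx)) y) := fun t =>
    (h2 t).mp (@Subsingleton.elim _ this _ _)
  exact ⟨(LinearEquiv.ofBijective _ ⟨h1, hs⟩).trans (Fdesc.StructMod.stalkEquiv y).symm⟩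

/-- A principal maximal ideal of a domain which is not a field is free of rank one. -/
theorem nonempty_equiv_maximalIdeal (R : Type*) [CommRing R] [IsDomain R] [IsDiscreteValuationRing R] :
    Nonempty (IsLocalRing.maximalIdeal R ≃ₗ[R] R) := by
  obtain ⟨ϖ, hϖ⟩ := IsDiscreteValuationRing.exists_irreducible R
  have h := hϖ.maximalIdeal_eq
  exact ⟨((LinearEquiv.toSpanNonzeroSingleton R R ϖ hϖ.ne_zero).trans
    (LinearEquiv.ofEq _ _ h.symm)).symm⟩

/-- The ideal of a closed point whose local ring is a discrete valuation ring is invertible. -/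
theorem isInvertible_idealMod [IsLocallyNoetherian X] (x : X) (hx : IsClosed ({x} : Set X))
    [IsDomain (X.presheaf.stalk x)] [IsDiscreteValuationRing (X.presheaf.stalk x)] :
    PicF.IsInvertible (ClSub.idealMod (pt x hx)) := by
  have key : ∀ y : X, Nonempty ((ClSub.idealMod (pt x hx)).presheaf.stalk y ≃ₗ[X.presheaf.stalk y]
      X.presheaf.stalk y) := by
    intro y
    by_cases hy : y = x
    · subst hy
      obtain ⟨e⟩ := nonempty_stalk_equiv y hx
      obtain ⟨e'⟩ := nonempty_equiv_maximalIdeal (X.presheaf.stalk y)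
      exact ⟨e.trans e'⟩
    · exact nonempty_stalk_equiv_of_ne x hx y hy
  refine CurvesB.OmegaInv.isInvertible_of_stalks (VarietyB.DegCartier.isCoh_idealMod _)
    (fun y => ?_) (fun y => ?_)
  · obtain ⟨e⟩ := key y
    exact Module.Free.of_equiv e.symm
  · obtain ⟨e⟩ := key y
    rw [e.finrank_eq, Module.finrank_self]

end Groth.Agent.Curves.K323.PtIdeal
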