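import Groth.Agent.Curves.K323.LinStabCD
import Mathlib.Data.Finset.Card
import Mathlib.Data.Finset.Powerset
import Mathlib.Algebra.BigOperators.Group.Finset.Basic

/-!
# Arithmetic of divisor classes: curves of Clifford index one

* `exists_partition`: the matroid partition theorem for two copies of a submodular function.
* `submod`: `A ↦ h b - h (b - A)` is submodular on finite sets of points.
* `three_h_le`: a class `a` with `deg a = 2 h a - 1`, a reduced member, and minimal for this property has
  `h (2 a) ≥ 3 (h a - 1)`.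
* `plane_quintic`: Clifford index one and no `g^1_3` force a very ample `g^2_5` in genus six.
-/

set_option autoImplicit false

namespace Groth.Agent.Curves.K323.CliffOneCD

/-- The matroid partition theorem for two copies of a submodular function. -/
theorem exists_partition {α : Type*} [DecidableEq α] (S : Finset α) (f : Finset α → ℤ)
    (hf : ∀ A B, A ⊆ S → B ⊆ S → f (A ∪ B) + f (A ∩ B) ≤ f A + f B) (h0 : f ∅ = 0)
    (hS : ∀ A, A ⊆ S → (A.card : ℤ) ≤ 2 * f A) :
    ∃ G₁ G₂ : Finset α, G₁ ⊆ S ∧ G₂ ⊆ S ∧ Disjoint G₁ G₂ ∧ G₁ ∪ G₂ = S ∧ (G₁.card : ℤ) ≤ f G₁ ∧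
      (G₂.card : ℤ) ≤ f G₂ := by
  have key : ∀ (n : ℕ) (G₁ G₂ : Finset α), (G₁ ∩ G₂).card = n → G₁ ⊆ S → G₂ ⊆ S → G₁ ∪ G₂ = S →
      (∀ A, A ⊆ S → (A.card : ℤ) ≤ f (A ∩ G₁) + f (A ∩ G₂)) →
      ∃ G₁ G₂ : Finset α, G₁ ⊆ S ∧ G₂ ⊆ S ∧ Disjoint G₁ G₂ ∧ G₁ ∪ G₂ = S ∧ (G₁.card : ℤ) ≤ f G₁ ∧
        (G₂.card : ℤ) ≤ f G₂ := by
    intro n
    induction n with
    | zero =>
      intro G₁ G₂ hc h1 h2 h12 hA
      rw [Finset.card_eq_zero] at hc
      refine ⟨G₁, G₂, h1, h2, Finset.disjoint_iff_inter_eq_empty.mpr hc, h12, ?_, ?_⟩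
      · have := hA G₁ h1
        rwa [Finset.inter_self, hc, h0, add_zero] at this
      · have := hA G₂ h2
        rwa [Finset.inter_self, Finset.inter_comm, hc, h0, zero_add] at this
    | succ n ih =>
      intro G₁ G₂ hc h1 h2 h12 hA
      obtain ⟨s, hs⟩ : (G₁ ∩ G₂).Nonempty := by
        rw [← Finset.card_pos, hc]; omega
      have hs1 : s ∈ G₁ := (Finset.mem_inter.mp hs).1
      have hs2 : s ∈ G₂ := (Finset.mem_inter.mp hs).2
      by_cases hc1 : ∀ A, A ⊆ S → (A.card : ℤ) ≤ f (A ∩ G₁.erase s) + f (A ∩ G₂)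
      · refine ih (G₁.erase s) G₂ ?_ ((Finset.erase_subset _ _).trans h1) h2 ?_ hc1
        · rw [Finset.erase_inter, Finset.card_erase_of_mem hs, hc]; rfl
        · apply subset_antisymm
          · exact Finset.union_subset ((Finset.erase_subset _ _).trans h1) h2
          · intro x hx
            rw [← h12, Finset.mem_union] at hx
            rw [Finset.mem_union, Finset.mem_erase]
            by_cases hxs : x = s
            · subst hxs; exact Or.inr hs2
            · exact hx.imp (fun h => ⟨hxs, h⟩) id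
      by_cases hc2 : ∀ A, A ⊆ S → (A.card : ℤ) ≤ f (A ∩ G₁) + f (A ∩ G₂.erase s)
      · refine ih G₁ (G₂.erase s) ?_ h1 ((Finset.erase_subset _ _).trans h2) ?_ hc2
        · rw [Finset.inter_erase, Finset.card_erase_of_mem hs, hc]; rfl
        · apply subset_antisymm
          · exact Finset.union_subset h1 ((Finset.erase_subset _ _).trans h2)
          · intro x hx
            rw [← h12, Finset.mem_union] at hx
            rw [Finset.mem_union, Finset.mem_erase]
            by_cases hxs : x = s
            · subst hxs; exact Or.inl hs1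
            · exact hx.imp id (fun h => ⟨hxs, h⟩)
      exfalso
      push Not at hc1 hc2
      obtain ⟨A, hAS, hA1⟩ := hc1
      obtain ⟨B, hBS, hB1⟩ := hc2
      have hsA : s ∈ A := by
        by_contra hcon
        have : A ∩ G₁.erase s = A ∩ G₁ := by
          ext x
          simp only [Finset.mem_inter, Finset.mem_erase]
          constructor
          · rintro ⟨h, -, h'⟩; exact ⟨h, h'⟩
          · rintro ⟨h, h'⟩; exact ⟨h, fun e => hcon (e ▸ h), h'⟩
        rw [this] at hA1
        exact absurd (hA A hAS) (not_le.mpr hA1)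
      have hsB : s ∈ B := by
        by_contra hcon
        have : B ∩ G₂.erase s = B ∩ G₂ := by
          ext x
          simp only [Finset.mem_inter, Finset.mem_erase]
          constructor
          · rintro ⟨h, -, h'⟩; exact ⟨h, h'⟩
          · rintro ⟨h, h'⟩; exact ⟨h, fun e => hcon (e ▸ h), h'⟩
        rw [this] at hB1
        exact absurd (hA B hBS) (not_le.mpr hB1)
      have e1 := hf (A ∩ G₁.erase s) (B ∩ G₁) (Finset.inter_subset_left.trans hAS)
        (Finset.inter_subset_left.trans hBS)
      have e2 := hf (A ∩ G₂) (B ∩ G₂.erase s) (Finset.inter_subset_left.trans hAS)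
        (Finset.inter_subset_left.trans hBS)
      have u1 : A ∩ G₁.erase s ∪ B ∩ G₁ = (A ∪ B) ∩ G₁ := by
        ext x
        simp only [Finset.mem_inter, Finset.mem_erase, Finset.mem_union]
        constructor
        · rintro (⟨h, -, h'⟩ | ⟨h, h'⟩)
          · exact ⟨Or.inl h, h'⟩
          · exact ⟨Or.inr h, h'⟩
        · rintro ⟨h | h, h'⟩
          · by_cases hxs : x = s
            · subst hxs; exact Or.inr ⟨hsB, h'⟩
            · exact Or.inl ⟨h, hxs, h'⟩
          · exact Or.inr ⟨h, h'⟩
      have u2 : A ∩ G₂ ∪ B ∩ G₂.erase s = (A ∪ B) ∩ G₂ := by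
        ext x
        simp only [Finset.mem_inter, Finset.mem_erase, Finset.mem_union]
        constructor
        · rintro (⟨h, h'⟩ | ⟨h, -, h'⟩)
          · exact ⟨Or.inl h, h'⟩
          · exact ⟨Or.inr h, h'⟩
        · rintro ⟨h | h, h'⟩
          · exact Or.inl ⟨h, h'⟩
          · by_cases hxs : x = s
            · subst hxs; exact Or.inl ⟨hsA, h'⟩
            · exact Or.inr ⟨h, hxs, h'⟩
      have i1 : A ∩ G₁.erase s ∩ (B ∩ G₁) = (A ∩ B).erase s ∩ G₁ := by
        ext x
        simp only [Finset.mem_inter, Finset.mem_erase]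
        tauto
      have i2 : A ∩ G₂ ∩ (B ∩ G₂.erase s) = (A ∩ B).erase s ∩ G₂ := by
        ext x
        simp only [Finset.mem_inter, Finset.mem_erase]
        tauto
      rw [u1, i1] at e1
      rw [u2, i2] at e2
      have c1 := hA (A ∪ B) (Finset.union_subset hAS hBS)
      have c2 := hA ((A ∩ B).erase s)
        ((Finset.erase_subset _ _).trans (Finset.inter_subset_left.trans hAS))
      have c3 := Finset.card_union_add_card_inter A B
      have c4 : ((A ∩ B).erase s).card + 1 = (A ∩ B).card :=
        Finset.card_erase_add_one (Finset.mem_inter.mpr ⟨hsA, hsB⟩)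
      omega
  refine key (S ∩ S).card S S rfl subset_rfl subset_rfl (Finset.union_self S) fun A hA => ?_
  rw [Finset.inter_eq_left.mpr hA, ← two_mul]
  exact hS A hA

variable {A : Type*} [AddCommGroup A] {pts : Type*} (C : K319.CD A pts)

theorem cl_union [DecidableEq pts] {s t : Finset pts} (h : Disjoint s t) :
    C.cl (s ∪ t).val = C.cl s.val + C.cl t.val := by
  rw [← Finset.disjUnion_eq_union _ _ h, ← C.cl_add]
  rfl

/-- `A ↦ h b - h (b - A)` is submodular. -/
theorem submod [DecidableEq pts] (b : A) (s t : Finset pts) :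
    C.h (b - C.cl s.val) + C.h (b - C.cl t.val) ≤
      C.h (b - C.cl (s ∪ t).val) + C.h (b - C.cl (s ∩ t).val) := by
  have h1 := C.koszul (b - C.cl (s ∪ t).val) (t \ s).val (s \ t).val (by
    intro x hx hx'
    rw [Finset.mem_val, Finset.mem_sdiff] at hx hx'
    exact hx.2 hx'.1)
  have e1 : C.cl (s ∪ t).val = C.cl s.val + C.cl (t \ s).val := by
    rw [← cl_union C Finset.disjoint_sdiff, Finset.union_sdiff_self_eq_union]
  have e2 : C.cl s.val = C.cl (s ∩ t).val + C.cl (s \ t).val := by
    rw [← cl_union C (Finset.disjoint_sdiff_inter s t).symm]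
    congr 2
    rw [Finset.union_comm, Finset.sdiff_union_inter]
  have e3 : C.cl t.val = C.cl (s ∩ t).val + C.cl (t \ s).val := by
    rw [Finset.inter_comm, ← cl_union C (Finset.disjoint_sdiff_inter t s).symm]
    congr 2
    rw [Finset.union_comm, Finset.sdiff_union_inter]
  have f1 : b - C.cl (s ∪ t).val + C.cl (t \ s).val = b - C.cl s.val := by rw [e1]; abel
  have f2 : b - C.cl (s ∪ t).val + C.cl (s \ t).val = b - C.cl t.val := by rw [e1, e2, e3]; abel
  have f3 : b - C.cl (s ∪ t).val + C.cl (t \ s).val + C.cl (s \ t).val = b - C.cl (s ∩ t).val := by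
    rw [f1, e2]; abel
  rw [f3, f1, f2] at h1
  exact h1

theorem nb_cl (x : pts) (m : Multiset pts) (hx : x ∉ m) : C.nb x (C.cl m) := by
  induction m using Multiset.induction_on with
  | empty =>
    rw [C.cl_zero, C.nb_iff, C.h_zero, C.h_neg]
    rw [zero_sub, map_neg, C.deg_p]
    norm_num
  | cons y m ih =>
    rw [Multiset.mem_cons, not_or] at hx
    rw [C.cl_cons]
    exact C.nb_add x _ _ (C.nb_p x y hx.1) (ih hx.2)

/-- Points imposing independent conditions. -/
theorem h_sub_cl_of_nb [DecidableEq pts] (b : A) (T : Finset pts)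
    (hT : ∀ p ∈ T, C.nb p (b - C.cl (T.erase p).val)) : C.h (b - C.cl T.val) + T.card = C.h b := by
  induction T using Finset.induction_on with
  | empty => simp
  | insert q T hq ih =>
    have e0 : C.cl (insert q T).val = C.cl T.val + C.p q := by
      rw [Finset.insert_val_of_notMem hq, C.cl_cons, add_comm]
    have h1 := ih fun p hp => by
      have hpq : p ≠ q := fun h => hq (h ▸ hp)
      have h2 := hT p (Finset.mem_insert_of_mem hp)
      have h3 := C.nb_add p _ _ h2 (C.nb_p p q hpq)
      have e1 : (insert q T).erase p = insert q (T.erase p) := Finset.erase_insert_of_ne hpq.symm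
      rw [e1, Finset.insert_val_of_notMem (fun h => hq (Finset.mem_of_mem_erase h)), C.cl_cons] at h3
      have e2 : b - (C.p q + C.cl (T.erase p).val) + C.p q = b - C.cl (T.erase p).val := by abel
      rwa [e2] at h3
    have h2 := hT q (Finset.mem_insert_self q T)
    rw [Finset.erase_insert hq] at h2
    have h3 := C.h_of_nb q _ h2
    rw [e0, Finset.card_insert_of_notMem hq, ← sub_sub]
    omega

theorem h_le_sub_cl (b : A) (m : Multiset pts) : C.h b ≤ C.h (b - C.cl m) + m.card := by
  induction m using Multiset.induction_on with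
  | empty => simp
  | cons x m ih =>
    have h1 := C.h_le_succ (b - C.cl m) x
    rw [C.cl_cons, Multiset.card_cons]
    have e : b - (C.p x + C.cl m) = b - C.cl m - C.p x := by abel
    rw [e]
    omega

/-- Quadratic growth for a class of Clifford index one, minimal for this property, with a reduced member. -/
theorem three_h_le (a : A) (h3 : 3 ≤ C.h a) (hd : C.deg a = 2 * C.h a - 1)
    (hrk : ∀ m : Multiset pts, m ≠ 0 → 2 ≤ C.h (a - C.cl m) → 2 * C.h (a - C.cl m) + m.card + 1 ≤ 2 * C.h a)
    (Γ : Finset pts) (hΓ : C.cl Γ.val = a) : 3 * C.h a ≤ C.h (a + a) + 3 := by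
  classical
  have hcard : Γ.card = 2 * C.h a - 1 := by
    have h1 := C.deg_cl Γ.val
    rw [hΓ, hd] at h1
    have h2 : Multiset.card Γ.val = Γ.card := rfl
    omega
  obtain ⟨T, hTΓ, hT⟩ := Finset.exists_subset_card_eq (s := Γ) (n := 2 * C.h a - 3) (by omega)
  have hsub : ∀ B : Finset pts, B ⊆ Γ → 1 ≤ C.h (a - C.cl B.val) := by
    intro B hB
    rw [← hΓ]
    have := C.cl_le_ne_zero (Finset.val_le_iff.mpr hB)
    omega
  have hnb : ∀ x, C.h (a - C.p x) + 1 = C.h a := by
    intro x
    have h1 := C.h_le_succ a x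
    have h2 := hrk {x} (Multiset.singleton_ne_zero x)
    have e : C.cl {x} = C.p x := by
      rw [← Multiset.cons_zero, C.cl_cons, C.cl_zero, add_zero]
    rw [e, Multiset.card_singleton] at h2
    have h3' := h2 (by omega)
    omega
  have key : ∀ p ∈ T, C.nb p (a + a - C.cl (T.erase p).val) := by
    intro p hp
    have hSc : (T.erase p).card = 2 * C.h a - 4 := by
      rw [Finset.card_erase_of_mem hp, hT]; omega
    obtain ⟨G₁, G₂, hG1, hG2, hdis, hun, hc1, hc2⟩ := exists_partition (T.erase p)
      (fun B => (C.h (a - C.p p) : ℤ) - C.h (a - C.p p - C.cl B.val)) (by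
        intro B D _ _
        have := submod C (a - C.p p) B D
        omega) (by simp) (by
        intro B hB
        have hpB : p ∉ B := fun h => Finset.notMem_erase p T (hB h)
        have e : a - C.p p - C.cl B.val = a - C.cl (insert p B).val := by
          rw [Finset.insert_val_of_notMem hpB, C.cl_cons]; abel
        have hBc := Finset.card_le_card hB
        have h1 := hnb p
        by_cases h2 : 2 ≤ C.h (a - C.cl (insert p B).val)
        · have h3' := hrk (insert p B).val (by
            intro h0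
            have : (insert p B) = (∅ : Finset pts) := Finset.val_eq_zero.mp h0
            exact Finset.insert_ne_empty p B this) h2
          have h4 : Multiset.card (insert p B).val = B.card + 1 := Finset.card_insert_of_notMem hpB
          rw [e]
          omega
        · have h3' := hsub (insert p B) (by
            refine Finset.insert_subset (hTΓ hp) ?_
            exact (hB.trans (Finset.erase_subset _ _)).trans hTΓ)
          rw [e]
          omega)
    have hG : ∀ G : Finset pts, (G.card : ℤ) ≤ (C.h (a - C.p p) : ℤ) - C.h (a - C.p p - C.cl G.val) →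
        C.nb p (a - C.cl G.val) := by
      intro G hG
      rw [C.nb_iff]
      have h1 := h_le_sub_cl C a G.val
      have h2 := hnb p
      have h3' := C.h_le_succ (a - C.cl G.val) p
      have e : a - C.p p - C.cl G.val = a - C.cl G.val - C.p p := by abel
      rw [e] at hG
      have h4 : Multiset.card G.val = G.card := rfl
      omega
    have h1 := C.nb_add p _ _ (hG G₁ hc1) (hG G₂ hc2)
    rw [← hun, cl_union C hdis]
    have e : a - C.cl G₁.val + (a - C.cl G₂.val) = a + a - (C.cl G₁.val + C.cl G₂.val) := by abel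
    rwa [e] at h1
  have h1 := h_sub_cl_of_nb C (a + a) T key
  have h2 : C.h a ≤ C.h (a + a - C.cl T.val) := by
    have h3' := C.mono a (a - C.cl T.val) (by have := hsub T hTΓ; omega)
    have e : a + (a - C.cl T.val) = a + a - C.cl T.val := by abel
    rwa [e] at h3'
  omega

/-- Clifford index one without `g^1_3`. -/
theorem plane_quintic (hred : ∀ a, C.h a ≠ 0 → (∀ x, C.nb x a) → ∃ Γ : Finset pts, C.cl Γ.val = a)
    (hmin : ∀ a, 2 ≤ C.h a → 2 ≤ C.h (C.K - a) → 2 * (C.h a : ℤ) ≤ C.deg a + 1)
    (hex : ∃ a, 2 ≤ C.h a ∧ 2 ≤ C.h (C.K - a) ∧ C.deg a = 2 * C.h a - 1)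
    (hnt : ¬ ∃ a, C.deg a = 3 ∧ 2 ≤ C.h a) :
    C.g = 6 ∧ ∃ a, C.h a = 3 ∧ ∀ x y, C.h (a - C.p x - C.p y) + 2 = C.h a := by
  classical
  -- minimal `h a`
  have hex' : ∃ n, ∃ a, C.h a = n ∧ 2 ≤ C.h a ∧ 2 ≤ C.h (C.K - a) ∧ C.deg a = 2 * C.h a - 1 := by
    obtain ⟨a, ha⟩ := hex
    exact ⟨_, a, rfl, ha⟩
  obtain ⟨a, hn, h2, h2', hd⟩ := Nat.find_spec hex'
  have hmina : ∀ b, 2 ≤ C.h b → 2 ≤ C.h (C.K - b) → C.deg b = 2 * C.h b - 1 → C.h a ≤ C.h b := by
    intro b hb hb' hbd
    rw [hn]
    exact Nat.find_min' hex' ⟨b, rfl, hb, hb', hbd⟩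
  have h3 : 3 ≤ C.h a := by
    by_contra hcon
    have h4 : C.h a = 2 := by omega
    refine hnt ⟨a, ?_, h2⟩
    rw [hd, h4]; norm_num
  have hrk : ∀ m : Multiset pts, m ≠ 0 → 2 ≤ C.h (a - C.cl m) →
      2 * C.h (a - C.cl m) + m.card + 1 ≤ 2 * C.h a := by
    intro m hm hm2
    have h4 : C.h (C.K - a) ≤ C.h (C.K - (a - C.cl m)) := by
      have := C.mono (C.K - a) (C.cl m) (C.h_cl_ne_zero m)
      have e : C.K - a + C.cl m = C.K - (a - C.cl m) := by abel
      rwa [e] at this
    have h5 := hmin (a - C.cl m) hm2 (by omega)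
    have h6 : C.deg (a - C.cl m) = C.deg a - m.card := by rw [map_sub, C.deg_cl]
    have h7 : 1 ≤ Multiset.card m := Multiset.card_pos.mpr hm
    rw [h6, hd] at h5
    by_contra hcon
    have h8 := hmina (a - C.cl m) hm2 (by omega) (by rw [h6, hd]; omega)
    omega
  have hnb : ∀ x, C.nb x a := by
    intro x
    rw [C.nb_iff]
    have h1 := C.h_le_succ a x
    have h2'' := hrk {x} (Multiset.singleton_ne_zero x)
    have e : C.cl {x} = C.p x := by
      rw [← Multiset.cons_zero, C.cl_cons, C.cl_zero, add_zero]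
    rw [e, Multiset.card_singleton] at h2''
    have h3' := h2'' (by omega)
    omega
  have hva : ∀ x y, C.h (a - C.p x - C.p y) + 2 = C.h a := by
    intro x y
    have h1 := C.h_of_nb x a (hnb x)
    have h4 := C.h_le_succ (a - C.p x) y
    have h5 := hrk (x ::ₘ {y}) (Multiset.cons_ne_zero)
    have e : a - C.cl (x ::ₘ {y}) = a - C.p x - C.p y := by
      rw [C.cl_cons, ← Multiset.cons_zero, C.cl_cons, C.cl_zero]; abel
    rw [e, Multiset.card_cons, Multiset.card_singleton] at h5
    by_cases h6 : 2 ≤ C.h (a - C.p x - C.p y)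
    · have := h5 h6
      omega
    · omega
  obtain ⟨Γ, hΓ⟩ := hred a (by omega) hnb
  have h6 := three_h_le C a h3 hd hrk Γ hΓ
  have hrr := C.rr a
  have hrr2 := C.rr (a + a)
  rw [map_add] at hrr2
  by_cases hs : C.h (C.K - (a + a)) = 0
  · exfalso
    refine hnt ⟨C.K - a, ?_, h2'⟩
    rw [map_sub, C.deg_K]
    omega
  · have hcl := C.clifford (a + a) (by omega) hs
    rw [map_add] at hcl
    have ha3 : C.h a = 3 := by omega
    have hKa : a + a = C.K := by
      by_contra hK
      obtain ⟨N, hN, hN2, -⟩ := C.clifford_eq (a + a) (by omega) hs (by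
        intro h0
        have := congrArg C.deg h0
        rw [map_add, map_zero] at this
        omega) hK (by rw [map_add]; omega)
      have h7 := C.rr N
      have h8 := hmin N (by omega) (by omega)
      omega
    refine ⟨?_, a, ha3, hva⟩
    have h7 := congrArg C.deg hKa
    rw [map_add, C.deg_K] at h7
    omega

end Groth.Agent.Curves.K323.CliffOneCD
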