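import Groth.Agent.S14431
import Groth.Agent.Pic13.K243.ZeroInv
import Groth.Agent.Curves.K319.VA
import Groth.Agent.Flat2B.SmoothGeom
import Groth.Agent.Ega1.ReducedSub
import Groth.Agent.Divis.EffCartier
import Groth.Agent.FormalB.ModPow
import Mathlib.Algebra.MvPolynomial.Funext

/-!
# Reduced members of base point free linear systems on curves, characteristic zero

* `vanishing_eq_prod`: the ideal of a finite set of closed points is the product of the ideals of the points.
* `exists_reduced`: a base point free class is the class of a finite set of points.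
* `exists_closedImmersion`: a very ample invertible module with `n + 1` sections spanning `H⁰` gives a closed
  immersion into `P^n`.
-/

set_option autoImplicit false
universe u

open CategoryTheory CategoryTheory.Limits AlgebraicGeometry Opposite TopologicalSpace

namespace Groth.Agent.Curves.K323.RedMem

open Groth.Agent Groth.Agent.Fdesc.LocGen Groth.Agent.Divis.CartierBasic Groth.Agent.Divis.EffCartier
open Groth.Agent.Grpsch.PicGrp K532.CurvePic K319.Setup K319.Base K319.PicCD Scheme.IdealSheafData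

/-- An ideal sheaf with reduced subscheme is the vanishing ideal of its support. -/
theorem eq_vI {X : Scheme.{u}} (J : X.IdealSheafData) [IsReduced J.subscheme] :
    J = vanishingIdeal J.support := by
  have h := Groth.Agent.Ega1.ReducedSub.radical_ker_eq J.subschemeι
  rw [Scheme.IdealSheafData.ker_subschemeι] at h
  rw [Scheme.IdealSheafData.vanishingIdeal_support, h]

theorem stalkIdeal_prod {Y : Scheme.{u}} {ι : Type*} (s : Finset ι) (I : ι → Y.IdealSheafData) (x : Y) :
    stalkIdeal (∏ i ∈ s, I i) x = ∏ i ∈ s, stalkIdeal (I i) x := by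
  classical
  induction s using Finset.induction_on with
  | empty =>
    rw [Finset.prod_empty, Finset.prod_empty, Ideal.one_eq_top]
    exact stalkIdeal_top x
  | insert a s ha ih => rw [Finset.prod_insert ha, Finset.prod_insert ha, stalkIdeal_mul, ih]

/-- Vanishing ideals agree where the closed sets agree. -/
theorem ideal_vanishing_congr {Y : Scheme.{u}} (Z Z' : Closeds Y) (V : Y.affineOpens)
    (h : ∀ x ∈ V.1, x ∈ Z ↔ x ∈ Z') : (vanishingIdeal Z).ideal V = (vanishingIdeal Z').ideal V := by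
  rw [vanishingIdeal_ideal, vanishingIdeal_ideal]
  congr 1
  ext y
  have hy : V.2.fromSpec y ∈ V.1 := by
    have : V.2.fromSpec y ∈ Set.range V.2.fromSpec := ⟨y, rfl⟩
    rwa [V.2.range_fromSpec] at this
  exact h _ hy

/-- The ideal of a finite set of closed points. -/
theorem vanishing_eq_prod {Y : Scheme.{u}} (T : Finset (Pts Y)) (Z : Closeds Y)
    (hZ : ∀ y, y ∈ Z ↔ ∃ P ∈ T, y = P.1) : vanishingIdeal Z = ∏ P ∈ T, I Y P.1 P.2 := by
  classical
  refine ext_stalkIdeal fun x => ?_
  rw [stalkIdeal_prod]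
  have htop : ∀ P : Pts Y, x ≠ P.1 → stalkIdeal (I Y P.1 P.2) x = 1 := by
    intro P hP
    rw [Ideal.one_eq_top, ← notMem_support_iff_stalkIdeal_eq_top]
    exact hP
  by_cases hx : x ∈ Z
  · obtain ⟨P, hPT, rfl⟩ := (hZ x).mp hx
    rw [Finset.prod_eq_single_of_mem P hPT (fun Q _ hQ => htop Q fun h => hQ (Subtype.ext h.symm))]
    let T' : Set Y := ⋃ Q ∈ (T.erase P : Finset (Pts Y)), {Q.1}
    have hT' : IsClosed T' := Set.Finite.isClosed_biUnion (Finset.finite_toSet _) fun Q _ => Q.2
    have hxU : P.1 ∉ T' := by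
      intro h
      simp only [T', Set.mem_iUnion, Set.mem_singleton_iff, Finset.mem_erase] at h
      obtain ⟨Q, ⟨h1, -⟩, h2⟩ := h
      exact h1 (Subtype.ext h2.symm)
    obtain ⟨V, hxV, hVT, -⟩ := exists_affine_le (⟨T'ᶜ, hT'.isOpen_compl⟩ : Y.Opens) ⊤ (x := P.1) hxU trivial
    rw [stalkIdeal_eq _ V hxV, stalkIdeal_eq _ V hxV, ideal_vanishing_congr _ ⟨{P.1}, P.2⟩ V fun y hy => ?_]
    rw [hZ]
    constructor
    · rintro ⟨Q, hQ, rfl⟩
      by_contra h3
      refine hVT hy (Set.mem_biUnion (x := Q) (Finset.mem_erase.mpr ⟨?_, hQ⟩) rfl)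
      rintro rfl
      exact h3 rfl
    · intro (h3 : y = P.1)
      exact ⟨P, hPT, h3⟩
  · rw [Finset.prod_eq_one fun P hP => htop P fun h => hx ((hZ x).mpr ⟨P, hP, h⟩), Ideal.one_eq_top,
      ← notMem_support_iff_stalkIdeal_eq_top]
    exact hx

section Class

variable (k : Type u) [Field k] [IsAlgClosed k] (X : Scheme.{u}) [X.Over (Spec (CommRingCat.of k))]
  [IsIntegral X] [IsProper (X ↘ (Spec (CommRingCat.of k)))]

theorem cl_prod (hX : Reg X) (T : Finset (Pts X)) :
    ∃ h : BlowUp.IsEffCartierIdeal (∏ P ∈ T, I X P.1 P.2),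
      (cd k X hX).cl T.val = Additive.ofMul (mk (ClSub.idealMod (∏ P ∈ T, I X P.1 P.2))
        (Dix.IdealModCartier.isInvertible_idealMod h))⁻¹ := by
  classical
  have key : ∀ (J : X.IdealSheafData), J = (∏ P ∈ T, I X P.1 P.2) → ∃ h : BlowUp.IsEffCartierIdeal J,
      (cd k X hX).cl T.val = Additive.ofMul (mk (ClSub.idealMod J)
        (Dix.IdealModCartier.isInvertible_idealMod h))⁻¹ := by
    induction T using Finset.induction_on with
    | empty =>
      intro J hJ
      rw [Finset.prod_empty, one_eq_top] at hJ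
      subst hJ
      refine ⟨isEff_top, ?_⟩
      have h : Dix.IdealModCartier.GenOn (⊤ : X.IdealSheafData) (1 : Γ(X, ⊤)) := by
        intro W hW
        rw [map_one]
        exact ⟨one_mem _, by rw [Ideal.span_singleton_one]; rfl⟩
      have h1 : mk (ClSub.idealMod (⊤ : X.IdealSheafData))
          (Dix.IdealModCartier.isInvertible_idealMod isEff_top) = 1 :=
        (mk_eq_one_iff _).mpr ((Dix.IdealModCartier.idealMod_principal h).map (·.symm))
      rw [h1, inv_one, ofMul_one]
      exact (cd k X hX).cl_zero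
    | insert a s ha ih =>
      intro J hJ
      rw [Finset.prod_insert ha] at hJ
      subst hJ
      obtain ⟨h1, h2⟩ := ih _ rfl
      have h0 := isEff_I k X hX.dim hX.reg a.1 a.2
      refine ⟨isEff_mul h0 h1, ?_⟩
      have h3 : mk (ClSub.idealMod (I X a.1 a.2 * ∏ P ∈ s, I X P.1 P.2))
          (Dix.IdealModCartier.isInvertible_idealMod (isEff_mul h0 h1)) =
          mk _ (Dix.IdealModCartier.isInvertible_idealMod h0) *
            mk _ (Dix.IdealModCartier.isInvertible_idealMod h1) := by
        rw [mk_mul_mk, eq_comm, mk_eq_iff]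
        exact Dix.IdealModCartier.idealMod_mul h0 h1
      rw [h3, mul_inv, ofMul_mul, ← h2, Finset.insert_val_of_notMem ha, K319.CD.cl_cons]
      rfl
  exact key _ rfl

theorem exists_good_param {n : ℕ} (p : MvPolynomial (Fin n) k) (hp : p ≠ 0) (e : Fin n → k) :
    ∃ c : Fin n → k, MvPolynomial.eval c p ≠ 0 ∧ MvPolynomial.eval (c + e) p ≠ 0 := by
  have : Infinite k := IsAlgClosed.instInfinite
  let q : MvPolynomial (Fin n) k := MvPolynomial.aeval (fun j => MvPolynomial.X j + MvPolynomial.C (e j)) p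
  have hq : ∀ c, MvPolynomial.eval c q = MvPolynomial.eval (c + e) p := by
    intro c
    change MvPolynomial.eval c (MvPolynomial.aeval _ p) = _
    rw [MvPolynomial.aeval_def, MvPolynomial.hom_eval₂]
    change MvPolynomial.eval₂ ((MvPolynomial.eval c).comp MvPolynomial.C) _ p = MvPolynomial.eval₂ (RingHom.id k) _ p
    congr 1
    · ext x; simp
    · ext j; simp
  have hq0 : q ≠ 0 := by
    intro h
    apply hp
    apply MvPolynomial.funext
    intro c
    have := hq (c - e)
    rw [h, map_zero, sub_add_cancel] at this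
    rw [map_zero, ← this]
  obtain ⟨c, hc⟩ : ∃ c, MvPolynomial.eval c (p * q) ≠ 0 := by
    by_contra hcon
    push Not at hcon
    exact mul_ne_zero hp hq0 (MvPolynomial.funext fun c => by rw [hcon c, map_zero])
  rw [map_mul] at hc
  exact ⟨c, left_ne_zero_of_mul hc, hq c ▸ right_ne_zero_of_mul hc⟩

/-- In characteristic zero a base point free class has a reduced member. -/
theorem exists_reduced [CharZero k] (hX : Reg X) (a : Additive (Pic X)) (ha : (cd k X hX).h a ≠ 0)
    (hb : ∀ x, (cd k X hX).nb x a) : ∃ Γ : Finset (Pts X), (cd k X hX).cl Γ.val = a := by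
  classical
  have := isNoeth k X
  have hsm := smooth k X hX.reg
  obtain ⟨L, hL, hLa⟩ := exists_mk a.toMul
  obtain rfl : a = Additive.ofMul (mk L hL) := by rw [← hLa]; rfl
  have hNB : ∀ P : Pts X, NB L P.1 := fun P => (NBc_mk P.1 hL).mp (hb P)
  obtain ⟨n, σ, hσ⟩ := CurvesB.VeryAmple.exists_spanning (X ↘ (Spec (CommRingCat.of k)))
    (CurvesB.VeryAmple.isCoh_of_isInvertible hL)
  have H : IsPullback (𝟙 X) (X ↘ (Spec (CommRingCat.of k))) (X ↘ (Spec (CommRingCat.of k)))
      (Spec.map (CommRingCat.ofHom (algebraMap k k))) := by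
    have h0 : Spec.map (CommRingCat.ofHom (algebraMap k k)) = 𝟙 _ := by
      rw [Algebra.algebraMap_self]
      exact Spec.map_id _
    rw [h0]
    exact IsPullback.of_horiz_isIso ⟨by simp⟩
  have e : L ≅ (Scheme.Modules.pullback (𝟙 X)).obj L := ((Scheme.Modules.pullbackId X).app L).symm
  have hcov := CurvesB.VeryAmple.iSup_genLocus_eq_top H hL σ hσ
    (fun y hy => (hNB ⟨y, hy⟩).of_iso e)
  have hgen : ⨆ i : Fin (n + 1), PicF2.zeroScheme L (CurvesC.Gen.ofSec (σ i)) = ⊤ := by
    rw [← support_eq_bot_iff, support_iSup, eq_bot_iff]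
    intro x hx
    exfalso
    have hx' : x ∈ (⨆ i, CohB1.genLocus L (CurvesC.Gen.ofSec (σ i)) : X.Opens) := by rw [hcov]; trivial
    obtain ⟨i, hi⟩ := TopologicalSpace.Opens.mem_iSup.1 hx'
    have hx2 : x ∈ (PicF2.zeroScheme L (CurvesC.Gen.ofSec (σ i))).support := by
      have h2 : (⨅ i, (PicF2.zeroScheme L (CurvesC.Gen.ofSec (σ i))).support : Closeds X) ≤
        (PicF2.zeroScheme L (CurvesC.Gen.ofSec (σ i))).support := iInf_le _ i
      exact h2 hx
    exact ((Pi1C.ZeroScheme.mem_support_iff _ hL x).mp hx2) hi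
  obtain ⟨p, hp, hp'⟩ := S14431.result k X L (Ega2.QCohLocal.isFinLocFreeOfRank_one_iff.2 hL) n _ hgen
  -- a nonzero section with smooth zero scheme
  obtain ⟨s, hs, hss⟩ : ∃ s : Coh.structureModule X ⟶ L, s ≠ 0 ∧
      Smooth ((PicF2.zeroScheme L s).subschemeι ≫ (X ↘ Spec (CommRingCat.of k))) := by
    obtain ⟨i₀, hi₀⟩ : ∃ i, CurvesC.Gen.ofSec (σ i) ≠ (0 : Coh.structureModule X ⟶ L) := by
      by_contra hcon
      push Not at hcon
      have hx' : genericPoint X ∈ (⨆ i, CohB1.genLocus L (CurvesC.Gen.ofSec (σ i)) : X.Opens) := by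
        rw [hcov]; trivial
      obtain ⟨i, hi⟩ := TopologicalSpace.Opens.mem_iSup.1 hx'
      rw [hcon i] at hi
      obtain ⟨U, e, hxU, he⟩ := (isInvertible_iff L).mp hL (genericPoint X)
      have h0 : sec (0 : Coh.structureModule X ⟶ L) U = (0 : Γ(X, U)) • e := by
        rw [zero_smul]
        rfl
      have h1 := genLocus_inf_eq (0 : Coh.structureModule X ⟶ L) he h0
      rw [Scheme.basicOpen_zero] at h1
      have h2 : genericPoint X ∈ CohB1.genLocus L (0 : Coh.structureModule X ⟶ L) ⊓ U := ⟨hi, hxU⟩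
      rw [h1] at h2
      exact h2
    obtain ⟨c, hc1, hc2⟩ := exists_good_param k p hp (Pi.single i₀ 1)
    have key : ∑ i : Fin (n + 1), Formal.smulMod k (Coh.structureModule X) ((c + Pi.single i₀ 1 : Fin (n + 1) → k) i) ≫
        CurvesC.Gen.ofSec (σ i) = (∑ i : Fin (n + 1), Formal.smulMod k (Coh.structureModule X) (c i) ≫
        CurvesC.Gen.ofSec (σ i)) + CurvesC.Gen.ofSec (σ i₀) := by
      have h1 : ∀ i, Formal.smulMod k (Coh.structureModule X) ((c + Pi.single i₀ 1 : Fin (n + 1) → k) i) ≫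
          CurvesC.Gen.ofSec (σ i) = Formal.smulMod k (Coh.structureModule X) (c i) ≫
          CurvesC.Gen.ofSec (σ i) + (if i = i₀ then CurvesC.Gen.ofSec (σ i) else 0) := by
        intro i
        rw [Pi.add_apply, FormalB.ModPow.smulMod_add, Preadditive.add_comp]
        congr 1
        by_cases h : i = i₀
        · subst h
          rw [Pi.single_eq_same, FormalB.ModPow.smulMod_one, Category.id_comp, if_pos rfl]
        · rw [Pi.single_eq_of_ne h, FormalB.ModPow.smulMod_zero, zero_comp, if_neg h]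
      rw [Finset.sum_congr rfl fun i _ => h1 i, Finset.sum_add_distrib, Finset.sum_ite_eq' Finset.univ i₀,
        if_pos (Finset.mem_univ _)]
    by_cases h0 : ∑ i : Fin (n + 1), Formal.smulMod k (Coh.structureModule X) (c i) ≫
        CurvesC.Gen.ofSec (σ i) = 0
    · refine ⟨_, ?_, hp' _ hc2⟩
      rw [key, h0, zero_add]
      exact hi₀
    · exact ⟨_, h0, hp' _ hc1⟩
  have hred : IsReduced (PicF2.zeroScheme L s).subscheme := Flat2B.SmoothGeom.isReduced_of_smooth
    ((PicF2.zeroScheme L s).subschemeι ≫ (X ↘ Spec (CommRingCat.of k)))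
  have hfin := finite_compl_genLocus (isClosed_of_ne X hX.dim) hL s hs
  have hgp := genericPoint_mem_genLocus hL s hs
  have hmem : ∀ x, x ∈ (PicF2.zeroScheme L s).support ↔ x ∉ CohB1.genLocus L s :=
    Pi1C.ZeroScheme.mem_support_iff s hL
  have hcl : ∀ x, x ∉ CohB1.genLocus L s → IsClosed ({x} : Set X) := fun x hx =>
    isClosed_of_ne X hX.dim x fun h => hx (h ▸ hgp)
  have hfin' : {P : Pts X | P.1 ∉ CohB1.genLocus L s}.Finite :=
    hfin.preimage (f := Subtype.val) Subtype.val_injective.injOn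
  have h1 := vanishing_eq_prod hfin'.toFinset (PicF2.zeroScheme L s).support (by
    intro y
    rw [hmem]
    constructor
    · intro hy
      exact ⟨⟨y, hcl y hy⟩, hfin'.mem_toFinset.mpr hy, rfl⟩
    · rintro ⟨P, hP, rfl⟩
      exact hfin'.mem_toFinset.mp hP)
  rw [← eq_vI (PicF2.zeroScheme L s)] at h1
  obtain ⟨h2, h3⟩ := cl_prod k X hX hfin'.toFinset
  refine ⟨hfin'.toFinset, ?_⟩
  rw [h3]
  congr 1
  rw [inv_eq_iff_mul_eq_one, mk_mul_mk, mk_eq_one_iff, ← h1]
  have h4 := K243.ZeroInv.isInverseOf_idealMod hL s hs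
  exact ⟨Ega2.Tens.swap _ _ ≪≫ h4.some⟩

end Class

end Groth.Agent.Curves.K323.RedMem
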