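import Groth.Agent.Curves.K319.VA

/-!
# Closed immersions into the projective space of a complete linear system

* `of_separates_fam`: `CurvesB.VeryAmple.of_separates` for a given spanning family of sections.
* `exists_immersion`: on a regular proper curve over an algebraically closed field an invertible module with
  `h⁰ = n + 1` which separates points and tangent vectors gives a closed immersion into `P^n`.
-/

set_option autoImplicit false
universe u
open CategoryTheory CategoryTheory.Limits AlgebraicGeometry TopologicalSpace Opposite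

namespace Groth.Agent.Curves.K323.VAFam

open Groth.Agent Groth.Agent.CurvesB
open Groth.Agent.CurvesC.Gen Groth.Agent.CurvesC.ProjMap Groth.Agent.CurvesC.ProjSpaceBasic
open Groth.Agent.VarietyB Groth.Agent.CurvesB.VeryAmple

section Main

variable {k K : Type u} [Field k] [Field K] [Algebra k K] {X Y : Scheme.{u}}
  {f : X ⟶ Spec (CommRingCat.of k)} {q : Y ⟶ X} {g : Y ⟶ Spec (CommRingCat.of K)}

/-- Very ampleness from separation of points and tangent vectors, with a given spanning family of sections. -/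
theorem of_separates_fam [IsAlgClosed K] (H : IsPullback q g f (Spec.map (CommRingCat.ofHom (algebraMap k K))))
    [IsProper f] {L : X.Modules} (hL : PicF.IsInvertible L)
    (hM : Separates ((Scheme.Modules.pullback q).obj L)) {n : ℕ} (σ : Fin (n + 1) → Γ(L, ⊤))
    (hσ : letI := FlatH0.modSpec f L; Submodule.span (CommRingCat.of k) (Set.range σ) = ⊤) :
    ∃ (i : X ⟶ CohB1.ProjSpace n k), IsClosedImmersion i ∧ i ≫ CohB1.ProjSpace.toSpec n k = f ∧
      Nonempty ((Scheme.Modules.pullback i).obj (Twist.twistProjSpace n k 1) ≅ L) := by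
  have hs := iSup_genLocus_eq_top H hL σ hσ hM.h0
  obtain ⟨φ, -, hφf, hφD, hφr, eφ, -⟩ := exists_morphism f L (fun i => ofSec (σ i)) hs
  refine ⟨φ, ?_, hφf, ⟨eφ⟩⟩
  subst hφf
  have : CompactSpace X := QuasiCompact.compactSpace_of_compactSpace (φ ≫ CohB1.ProjSpace.toSpec n k)
  have : QuasiSeparatedSpace X := quasiSeparatedSpace_of_quasiSeparated (φ ≫ CohB1.ProjSpace.toSpec n k)
  have hprop : IsProper (CohB1.ProjSpace.toSpec n k) := inferInstance
  have hφp : IsProper φ := IsProper.of_comp φ (CohB1.ProjSpace.toSpec n k)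
  let Sp := Spec.map (CommRingCat.ofHom (algebraMap k K))
  let P := pullback (CohB1.ProjSpace.toSpec n k) Sp
  let p : P ⟶ CohB1.ProjSpace n k := pullback.fst _ _
  let t : P ⟶ Spec (CommRingCat.of K) := pullback.snd _ _
  have HP : IsPullback p t (CohB1.ProjSpace.toSpec n k) Sp := IsPullback.of_hasPullback _ _
  let ψ : Y ⟶ P := HP.lift (q ≫ φ) g (by rw [Category.assoc]; exact H.w)
  have w1 : ψ ≫ p = q ≫ φ := HP.lift_fst _ _ _
  have w2 : ψ ≫ t = g := HP.lift_snd _ _ _
  have Hψ : IsPullback q ψ φ p := by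
    refine IsPullback.of_bot (h₃₁ := Sp) (v₂₁ := t) (v₂₂ := CohB1.ProjSpace.toSpec n k) ?_ w1.symm HP
    rw [w2]
    exact H
  have hψp : IsProper ψ := MorphismProperty.of_isPullback Hψ hφp
  have htl : LocallyOfFiniteType t :=
    MorphismProperty.of_isPullback HP (inferInstanceAs (LocallyOfFiniteType (CohB1.ProjSpace.toSpec n k)))
  have hSf : Flat Sp := by
    rw [HasRingHomProperty.Spec_iff (P := @Flat)]
    change (algebraMap k K).Flat
    rw [RingHom.flat_algebraMap_iff]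
    infer_instance
  have hSs : Surjective Sp := ⟨fun x => ⟨Classical.arbitrary _, Subsingleton.elim _ _⟩⟩
  have hpf : Flat p := MorphismProperty.of_isPullback HP.flip hSf
  have hps : Surjective p := MorphismProperty.of_isPullback HP.flip hSs
  have hpq : QuasiCompact p := MorphismProperty.of_isPullback HP.flip (inferInstanceAs (QuasiCompact Sp))
  -- the key formula
  have hU : ∀ i, ψ ⁻¹ᵁ (p ⁻¹ᵁ Dp n k i) = q ⁻¹ᵁ (φ ⁻¹ᵁ Dp n k i) := fun i => by
    rw [← Scheme.Hom.comp_preimage, ← Scheme.Hom.comp_preimage, w1]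
  have he : ∀ i, IsGen ((Scheme.Modules.pullback q).obj L) (ψ ⁻¹ᵁ (p ⁻¹ᵁ Dp n k i))
      (PullSec.sec q L (hU i).le (sec (ofSec (σ i)) (φ ⁻¹ᵁ Dp n k i))) := fun i => by
    refine isGen_pullSec q L ?_ _
    rw [← le_genLocus_iff, hφD]
  have key : ∀ (τ : Coh.structureModule Y ⟶ (Scheme.Modules.pullback q).obj L) (i : Fin (n + 1)),
      ∃ β : Γ(P, p ⁻¹ᵁ Dp n k i), ψ.app (p ⁻¹ᵁ Dp n k i) β •
        PullSec.sec q L (hU i).le (sec (ofSec (σ i)) (φ ⁻¹ᵁ Dp n k i)) =
          sec τ (ψ ⁻¹ᵁ (p ⁻¹ᵁ Dp n k i)) := by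
    intro τ i
    obtain ⟨c, hc⟩ := exists_combination H L (isCoh_of_isInvertible hL).1 σ hσ (sec τ ⊤)
    refine ⟨_, exists_beta L (fun i => ofSec (σ i)) φ hφr p t ψ w1 w2 τ c ?_ i (hU i).le⟩
    simpa using hc
  have hcov : ∀ z : P, ∃ i, z ∈ p ⁻¹ᵁ Dp n k i := by
    intro z
    have h1 : p z ∈ (⨆ i, Dp n k i : (CohB1.ProjSpace n k).Opens) := by rw [iSup_Dp]; trivial
    obtain ⟨i, hi⟩ := TopologicalSpace.Opens.mem_iSup.1 h1
    exact ⟨i, hi⟩
  have hψc : IsClosedImmersion ψ := by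
    refine ClosedImmPts.isClosedImmersion_of_closedPoints ψ t ?_ ?_
    · intro x y hx hy hxy
      by_contra hne
      obtain ⟨τ, hτx, hτy⟩ := hM.h1 x y hx hy hne
      obtain ⟨i, hi⟩ := hcov (ψ y)
      obtain ⟨β, hβ⟩ := key τ i
      have h1 := genLocus_inf_eq_basicOpen (he i) τ hβ
      rw [← Scheme.preimage_basicOpen] at h1
      have h2 : y ∈ ψ ⁻¹ᵁ P.basicOpen β := by rw [← h1]; exact ⟨hτy, hi⟩
      have h3 : x ∈ ψ ⁻¹ᵁ P.basicOpen β := by
        change ψ x ∈ P.basicOpen β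
        rw [hxy]
        exact h2
      rw [← h1] at h3
      exact hτx h3.1
    · intro y hy
      have hle : (IsLocalRing.maximalIdeal (P.presheaf.stalk (ψ y))).map (ψ.stalkMap y).hom ≤
          IsLocalRing.maximalIdeal (Y.presheaf.stalk y) := by
        rw [Ideal.map_le_iff_le_comap]
        intro z hz
        exact (IsLocalRing.mem_maximalIdeal _).2 fun hu => (IsLocalRing.mem_maximalIdeal _).1 hz
          (isUnit_of_map_unit _ _ hu)
      by_contra hne
      obtain ⟨V, hyV, e, τ, a, he', ha, ham, haI⟩ := hM.h2 y hy _ (lt_of_le_of_ne hle hne)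
      obtain ⟨i, hi⟩ := hcov (ψ y)
      obtain ⟨β, hβ⟩ := key τ i
      have hyU : y ∈ ψ ⁻¹ᵁ (p ⁻¹ᵁ Dp n k i) := hi
      have l1 : (ψ ⁻¹ᵁ (p ⁻¹ᵁ Dp n k i)) ⊓ V ≤ ψ ⁻¹ᵁ (p ⁻¹ᵁ Dp n k i) := inf_le_left
      have l2 : (ψ ⁻¹ᵁ (p ⁻¹ᵁ Dp n k i)) ⊓ V ≤ V := inf_le_right
      obtain ⟨u, hu⟩ := (he'.mono l2).exists_eq (((Scheme.Modules.pullback q).obj L).presheaf.map (homOfLE l1).op
        (PullSec.sec q L (hU i).le (sec (ofSec (σ i)) (φ ⁻¹ᵁ Dp n k i))))
      have hunit : IsUnit u := (isGen_iff_of_eq_smul (he'.mono l2) hu).1 ((he i).mono l1)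
      have hau : Y.presheaf.map (homOfLE l2).op a = Y.presheaf.map (homOfLE l1).op (ψ.app (p ⁻¹ᵁ Dp n k i) β) * u := by
        apply (he'.mono l2).injective
        rw [← map_smul_section, ha, map_sec, mul_smul, hu, ← map_smul_section, hβ, map_sec]
      have hyW : y ∈ (ψ ⁻¹ᵁ (p ⁻¹ᵁ Dp n k i)) ⊓ V := ⟨hyU, hyV⟩
      have hg : Y.presheaf.germ V y hyV a = (ψ.stalkMap y).hom (P.presheaf.germ _ (ψ y) hi β) *
          Y.presheaf.germ _ y hyW u := by
        have h1 := congr(Y.presheaf.germ _ y hyW $hau)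
        rw [map_mul] at h1
        have h2 : Y.presheaf.germ _ y hyW (Y.presheaf.map (homOfLE l2).op a) = Y.presheaf.germ V y hyV a :=
          TopCat.Presheaf.germ_res_apply _ _ _ _ _
        have h3 : Y.presheaf.germ _ y hyW (Y.presheaf.map (homOfLE l1).op (ψ.app (p ⁻¹ᵁ Dp n k i) β)) =
            Y.presheaf.germ _ y hyU (ψ.app (p ⁻¹ᵁ Dp n k i) β) :=
          TopCat.Presheaf.germ_res_apply _ _ _ _ _
        rw [h2, h3] at h1
        rw [h1]
        congr 1
        exact (Scheme.Hom.germ_stalkMap_apply ψ _ y hi β).symm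
      have hgu : IsUnit (Y.presheaf.germ _ y hyW u) := hunit.map _
      have hm : P.presheaf.germ _ (ψ y) hi β ∈ IsLocalRing.maximalIdeal (P.presheaf.stalk (ψ y)) := by
        refine (IsLocalRing.mem_maximalIdeal _).2 fun hu' => (IsLocalRing.mem_maximalIdeal _).1 ham ?_
        rw [hg]
        exact (hu'.map _).mul hgu
      apply haI
      rw [hg]
      exact Ideal.mul_mem_right _ _ (Ideal.mem_map_of_mem _ hm)
  exact ClosedImmPts.isClosedImmersion_of_isPullback Hψ

end Main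

section Curve

open K319.Setup K319.Base K319.PicCD K319.PnSep K319.VA K532.CurvePic Groth.Agent.Grpsch.PicGrp IsLocalRing
open Groth.Agent.Fdesc.LocGen Groth.Agent.Dix.IdealModCartier

variable (k : Type u) [Field k] [IsAlgClosed k] (X : Scheme.{u}) [X.Over (Spec (CommRingCat.of k))]
  [IsIntegral X] [IsProper (X ↘ (Spec (CommRingCat.of k)))]

theorem separates (hX : Reg X) {L : X.Modules} (hL : PicF.IsInvertible L) (hVA : IsVA k X L) :
    CurvesB.VeryAmple.Separates L := by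
  have := isNoeth k X
  refine ⟨fun y _ => NB_of_isVA k X hVA y, ?_, ?_⟩
  · intro x y hx hy hxy
    have h3 := NB_ideal_of_isVA k X hX hL hVA ⟨x, hx⟩ ⟨y, hy⟩
    exact (NB_ideal_iff_of_ne x hx hL hxy.symm).mp h3
  · intro y hy J hJ
    have hE := isEff_I k X hX.dim hX.reg y hy
    have h3 := NB_ideal_of_isVA k X hX hL hVA ⟨y, hy⟩ ⟨y, hy⟩
    obtain ⟨V, hyV, e', s, a, he', ha, ham, ham2⟩ :=
      (NB_ideal_self_iff y hy hE hL (sq_ne k X hX ⟨y, hy⟩)).mp h3
    refine ⟨V, hyV, e', s, a, he', ha, ham, fun hJa => ?_⟩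
    -- `a` generates the maximal ideal
    have hd := isDVR k X hX.dim hX.reg (ne_genericPoint hX.dim hy)
    obtain ⟨ϖ, hϖ⟩ := IsDiscreteValuationRing.exists_irreducible (X.presheaf.stalk y)
    rw [hϖ.maximalIdeal_eq, Ideal.mem_span_singleton] at ham
    obtain ⟨c, hc⟩ := ham
    have hcu : IsUnit c := by
      by_contra hcon
      apply ham2
      rw [hc, sq]
      refine Ideal.mul_mem_mul ?_ ((mem_maximalIdeal _).mpr hcon)
      rw [hϖ.maximalIdeal_eq]
      exact Ideal.mem_span_singleton_self _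
    have : maximalIdeal (X.presheaf.stalk y) ≤ J := by
      rw [hϖ.maximalIdeal_eq, Ideal.span_singleton_le_iff_mem]
      rw [hc] at hJa
      exact (Ideal.mul_unit_mem_iff_mem _ hcu).mp hJa
    exact absurd hJ (not_lt_of_ge this)


omit [IsAlgClosed k] [IsIntegral X] in
/-- A basis of sections. -/
theorem exists_basis {L : X.Modules} (hL : Coh.IsCoh L) (n : ℕ) (h : Module.finrank k (Coh.HH X L 0) = n) :
    ∃ σ : Fin n → Γ(L, ⊤), letI := FlatH0.modSpec (X ↘ (Spec (CommRingCat.of k))) L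
      Submodule.span (CommRingCat.of k) (Set.range σ) = ⊤ := by
  have h1 : Module.Finite k (Coh.HH X L 0) := S0002.result k X L hL 0
  let m := FlatH0.modSpec (X ↘ (Spec (CommRingCat.of k))) L
  let m2 := HZero.moduleΓ (X := X) k L
  have h2 : Module.Finite k Γ(L, ⊤) := Module.Finite.equiv (HZero.equivLin k L)
  have h3 : m = m2 := rfl
  have h4 : Module.finrank k Γ(L, ⊤) = n := (HZero.equivLin k L).finrank_eq.symm.trans h
  let b := Module.finBasisOfFinrankEq k Γ(L, ⊤) h4
  exact ⟨b, b.span_eq⟩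

/-- A closed immersion into `P^n` from a very ample class with `h = n + 1`. -/
theorem exists_immersion (hX : Reg X) {L : X.Modules} (hL : PicF.IsInvertible L)
    (hva : ∀ P Q : Pts X, (cd k X hX).h (Additive.ofMul (mk L hL) - (cd k X hX).p P - (cd k X hX).p Q) + 2 =
      (cd k X hX).h (Additive.ofMul (mk L hL))) (n : ℕ) (hn : (cd k X hX).h (Additive.ofMul (mk L hL)) = n + 1) :
    ∃ i : X ⟶ CohB1.ProjSpace n k, IsClosedImmersion i ∧
      i ≫ CohB1.ProjSpace.toSpec n k = X ↘ Spec (CommRingCat.of k) ∧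
      Nonempty ((Scheme.Modules.pullback i).obj (Twist.twistProjSpace n k 1) ≅ L) := by
  have H : IsPullback (𝟙 X) (X ↘ (Spec (CommRingCat.of k))) (X ↘ (Spec (CommRingCat.of k)))
      (Spec.map (CommRingCat.ofHom (algebraMap k k))) := by
    have h0 : Spec.map (CommRingCat.ofHom (algebraMap k k)) = 𝟙 _ := by
      rw [Algebra.algebraMap_self]
      exact Spec.map_id _
    rw [h0]
    exact IsPullback.of_horiz_isIso ⟨by simp⟩
  have e : L ≅ (Scheme.Modules.pullback (𝟙 X)).obj L := ((Scheme.Modules.pullbackId X).app L).symm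
  obtain ⟨m, i, hi, hik, ⟨e'⟩⟩ := (isVA_iff k X hX hL).mpr hva
  have h1 : IsVA k X ((Scheme.Modules.pullback (𝟙 X)).obj L) := ⟨m, i, hi, hik, ⟨e' ≪≫ e⟩⟩
  have h2 : Module.finrank k (Coh.HH X L 0) = n + 1 := by
    rw [← hn]
    rfl
  obtain ⟨σ, hσ⟩ := exists_basis k X (isCoh_of_isInvertible hL) (n + 1) h2
  exact of_separates_fam H hL (separates k X hX (isInvertible_pullback _ hL) h1) σ hσ

end Curve

end Groth.Agent.Curves.K323.VAFam
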