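import Groth.Agent.Curves.K323.LinStab
import Groth.Agent.Curves.K323.CliffOneCD
import Groth.Agent.Curves.K323.RedMem
import Groth.Agent.Curves.K323.VAFam

/-!
# Curves of Clifford index one are trigonal or plane quintics
-/

set_option autoImplicit false
universe u

open CategoryTheory CategoryTheory.Limits AlgebraicGeometry TopologicalSpace Opposite

namespace Groth.Agent.Curves.K323.CliffOneMain

open Groth.Agent Groth.Agent.Grpsch.PicGrp K532.CurvePic K319.PicCD K319.Base Curves.K323.LinStab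

variable (k : Type u) [Field k] [IsAlgClosed k] {X : Scheme.{u}} [X.Over (Spec (CommRingCat.of k))]
  [IsIntegral X] [IsProper (X ↘ (Spec (CommRingCat.of k)))]

theorem finrank_one (hX : Reg X) {M : X.Modules} (hM : PicF.IsInvertible M) :
    Module.finrank k (Coh.HH X M 1) = (cd k X hX).h ((cd k X hX).K - Additive.ofMul (mk M hM)) := by
  rw [← h_mk k X 1 hM, serre (hX.isCurve (k := k)), ← div_eq_mul_inv]
  rfl

theorem cliff (hX : Reg X) (hmin : ∀ M : X.Modules, PicF.IsInvertible M → 2 ≤ Module.finrank k (Coh.HH X M 0) →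
      2 ≤ Module.finrank k (Coh.HH X M 1) → 2 * (Module.finrank k (Coh.HH X M 0) : ℤ) - 1 ≤ Curv2.deg k X M 1)
    (a : Additive (Pic X)) (h1 : 2 ≤ (cd k X hX).h a) (h2 : 2 ≤ (cd k X hX).h ((cd k X hX).K - a)) :
    2 * ((cd k X hX).h a : ℤ) ≤ (cd k X hX).deg a + 1 := by
  obtain ⟨M, hM, ha⟩ := exists_mk a.toMul
  obtain rfl : a = Additive.ofMul (mk M hM) := ha
  have h3 := hmin M hM (h1.trans (h_mk k X 0 hM).le) (by rw [finrank_one k hX hM]; exact h2)
  rw [← deg_mk k X hX.dim hM, ← h_mk k X 0 hM] at h3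
  change 2 * ((cd k X hX).h (Additive.ofMul (mk M hM)) : ℤ) - 1 ≤ (cd k X hX).deg (Additive.ofMul (mk M hM)) at h3
  linarith

theorem exists_cliff (hX : Reg X) (hex : ∃ M : X.Modules, PicF.IsInvertible M ∧
      2 ≤ Module.finrank k (Coh.HH X M 0) ∧ 2 ≤ Module.finrank k (Coh.HH X M 1) ∧
      Curv2.deg k X M 1 = 2 * (Module.finrank k (Coh.HH X M 0) : ℤ) - 1) :
    ∃ a, 2 ≤ (cd k X hX).h a ∧ 2 ≤ (cd k X hX).h ((cd k X hX).K - a) ∧
      (cd k X hX).deg a = 2 * (cd k X hX).h a - 1 := by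
  obtain ⟨M, hM, h1, h2, h3⟩ := hex
  refine ⟨Additive.ofMul (mk M hM), h1.trans (h_mk k X 0 hM).ge, ?_, ?_⟩
  · rwa [finrank_one k hX hM] at h2
  · rw [← deg_mk k X hX.dim hM, ← h_mk k X 0 hM] at h3
    exact h3

/-- Curves of Clifford index one are trigonal or plane quintics. -/
theorem main [CharZero k] (hX : Reg X) (hex : ∃ M : X.Modules, PicF.IsInvertible M ∧
      2 ≤ Module.finrank k (Coh.HH X M 0) ∧ 2 ≤ Module.finrank k (Coh.HH X M 1) ∧
      Curv2.deg k X M 1 = 2 * (Module.finrank k (Coh.HH X M 0) : ℤ) - 1)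
    (hmin : ∀ M : X.Modules, PicF.IsInvertible M → 2 ≤ Module.finrank k (Coh.HH X M 0) →
      2 ≤ Module.finrank k (Coh.HH X M 1) → 2 * (Module.finrank k (Coh.HH X M 0) : ℤ) - 1 ≤ Curv2.deg k X M 1) :
    (∃ (L : X.Modules) (s : Fin 2 → LinSer.Sect X L), LinSer.IsLinSer k X L 3 1 s) ∨
      (Curv2.genus k X = 6 ∧ ∃ i : X ⟶ CohB1.ProjSpace 2 k, IsClosedImmersion i ∧
        i ≫ CohB1.ProjSpace.toSpec 2 k = X ↘ Spec (CommRingCat.of k)) := by
  by_cases hnt : ∃ (L : X.Modules) (s : Fin 2 → LinSer.Sect X L), LinSer.IsLinSer k X L 3 1 s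
  · exact Or.inl hnt
  right
  obtain ⟨h6, a, ha, hva⟩ := CliffOneCD.plane_quintic (cd k X hX) (RedMem.exists_reduced k X hX)
    (cliff k hX hmin) (exists_cliff k hX hex) (no_linSer k hX 3 hnt)
  obtain ⟨L, hL, hLa⟩ := exists_mk a.toMul
  obtain rfl : a = Additive.ofMul (mk L hL) := hLa
  obtain ⟨i, hi, hi', -⟩ := VAFam.exists_immersion k X hX hL hva 2 ha
  exact ⟨h6, i, hi, hi'⟩

end Groth.Agent.Curves.K323.CliffOneMain
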