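import Groth.Agent.VarietyA.EulerLES
import Groth.Agent.CurvesB.HZero
import Groth.Agent.Dcoh.FinLocFree
import Groth.Agent.Cohder.PushoutSES
import Groth.Agent.CohtopB.DimZero
import Mathlib.Algebra.Homology.ShortComplex.ShortExact

/-!
# Extensions of the structure sheaf and sections

* `exists_lift_unit`: for `0 → A → B → C → 0` with `H^1(A) → H^1(B)` injective, sections of `C` lift to `B`;
* `exists_extend`: for `0 → A → B → O → 0` and `i : A → F` such that `H^1(A) → H^1(B)`, `H^1(A) → H^1(F)`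
  are zero, `i` extends to `B`.
-/

set_option autoImplicit false
universe u
open CategoryTheory CategoryTheory.Limits AlgebraicGeometry TopologicalSpace Opposite

namespace Groth.Agent.Curves.K323.ExtLift

open Groth.Agent.VarietyA.EulerLES Groth.Agent.Dcoh.FinLocFree

variable {X : Scheme.{u}}

/-- If `H^1(A) → H^1(B)` is injective, sections of `C` lift to `B`. -/
theorem exists_lift_unit (S : ShortComplex X.Modules) (hS : S.ShortExact)
    (hinj : Function.Injective (mapΓ S.f 1)) (φ : Coh.structureModule X ⟶ S.X₃) :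
    ∃ ψ : Coh.structureModule X ⟶ S.X₂, ψ ≫ S.g = φ := by
  let x : Coh.HH X S.X₃ 0 := (CurvesB.HZero.equivAdd S.X₃).symm (unitSec φ)
  have h1 : mapΓ S.f 1 (deltaΓ S hS 0 1 rfl x) = 0 := (exact₁ S hS 0 1 rfl _).mpr ⟨x, rfl⟩
  have h2 : deltaΓ S hS 0 1 rfl x = 0 := hinj (by rw [h1, map_zero])
  obtain ⟨y, hy⟩ := (exact₃ S hS 0 1 rfl x).mp h2
  refine ⟨(unitEquiv S.X₂).symm (CurvesB.HZero.equivAdd S.X₂ y), ?_⟩
  apply hom_ext_unit
  have h3 : CurvesB.HZero.equivAdd S.X₃ (mapΓ S.g 0 y) = S.g.app ⊤ (CurvesB.HZero.equivAdd S.X₂ y) :=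
    CurvesB.HZero.equivAdd_map S.g y
  have h4 : unitSec ((unitEquiv S.X₂).symm (CurvesB.HZero.equivAdd S.X₂ y)) =
      CurvesB.HZero.equivAdd S.X₂ y := (unitEquiv S.X₂).apply_symm_apply _
  have h5 : unitSec ((unitEquiv S.X₂).symm (CurvesB.HZero.equivAdd S.X₂ y) ≫ S.g) =
      S.g.app ⊤ (unitSec ((unitEquiv S.X₂).symm (CurvesB.HZero.equivAdd S.X₂ y))) := rfl
  rw [h5, h4, ← h3, hy]
  exact (CurvesB.HZero.equivAdd S.X₃).apply_symm_apply _

/-- A short exact sequence with quotient `O` splits if `H^1(A) → H^1(B)` is injective. -/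
theorem nonempty_splitting (S : ShortComplex X.Modules) (hS : S.ShortExact)
    (hinj : Function.Injective (mapΓ S.f 1)) (e : Coh.structureModule X ≅ S.X₃) :
    Nonempty S.Splitting := by
  obtain ⟨ψ, hψ⟩ := exists_lift_unit S hS hinj e.hom
  have := hS.mono_f
  exact ⟨ShortComplex.Splitting.ofExactOfSection S hS.exact (e.inv ≫ ψ)
    (by rw [Category.assoc, hψ, Iso.inv_hom_id]) inferInstance⟩

theorem mapΓ_neg {M N : X.Modules} (f : M ⟶ N) (n : ℕ) : mapΓ (-f) n = -mapΓ f n := by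
  have h := mapΓ_add f (-f) n
  rw [add_neg_cancel, mapΓ_zero] at h
  exact (neg_eq_of_add_eq_zero_right h.symm).symm

theorem exists_extend (S : ShortComplex X.Modules) (hS : S.ShortExact)
    (e : Coh.structureModule X ≅ S.X₃) (hf : mapΓ S.f 1 = 0) {F : X.Modules} (i : S.X₁ ⟶ F)
    (hi : mapΓ i 1 = 0) : ∃ h : S.X₂ ⟶ F, S.f ≫ h = i := by
  have sq := IsPushout.of_hasPushout S.f i
  have hmono := hS.mono_f
  let p : pushout S.f i ⟶ S.X₃ := pushout.desc S.g 0 (by rw [S.zero, comp_zero])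
  have hp : pushout.inl S.f i ≫ p = S.g := pushout.inl_desc _ _ _
  have hp' : pushout.inr S.f i ≫ p = 0 := pushout.inr_desc _ _ _
  have hP := Cohder.PushoutSES.shortExact_of_isPushout (f := S.f) (g := S.g) (w := S.zero) hS sq hp hp'
  let a : S.X₁ ⟶ S.X₂ ⊞ F := biprod.lift S.f (-i)
  let b : S.X₂ ⊞ F ⟶ pushout S.f i := biprod.desc (pushout.inl S.f i) (pushout.inr S.f i)
  have hab : a ≫ b = 0 := sq.shortComplex.zero
  have hQ : (ShortComplex.mk a b hab).ShortExact := CohtopB.DimZero.shortExact_of_isPushout sq hmono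
  have h0 : mapΓ a 1 = 0 := by
    have : a = S.f ≫ biprod.inl + (-i) ≫ biprod.inr := biprod.lift_eq
    rw [this, mapΓ_add, mapΓ_comp, mapΓ_comp, mapΓ_neg, hf, hi]
    simp
  have hinj : Function.Injective (mapΓ (pushout.inr S.f i) 1) := by
    have h1 : Function.Injective (mapΓ b 1) := by
      rw [injective_iff_map_eq_zero]
      intro y hy
      obtain ⟨z, hz⟩ := (exact₂ _ hQ 1 y).mp hy
      rw [← hz]
      exact DFunLike.congr_fun h0 z
    have h2 : Function.Injective (mapΓ (biprod.inr : F ⟶ S.X₂ ⊞ F) 1) := by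
      have : (mapΓ (biprod.snd : S.X₂ ⊞ F ⟶ F) 1).comp (mapΓ (biprod.inr : F ⟶ S.X₂ ⊞ F) 1) =
          LinearMap.id := by
        rw [← mapΓ_comp, biprod.inr_snd, mapΓ_id]
      intro a b hab
      have h3 := DFunLike.congr_fun this a
      have h4 := DFunLike.congr_fun this b
      rw [LinearMap.comp_apply] at h3 h4
      rw [hab] at h3
      exact h3.symm.trans h4
    have h3 : pushout.inr S.f i = biprod.inr ≫ b := (biprod.inr_desc _ _).symm
    rw [h3, mapΓ_comp]
    exact h1.comp h2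
  obtain ⟨σ⟩ := nonempty_splitting _ hP hinj e
  refine ⟨pushout.inl S.f i ≫ σ.r, ?_⟩
  rw [← Category.assoc, pushout.condition, Category.assoc]
  have : pushout.inr S.f i ≫ σ.r = 𝟙 _ := σ.f_r
  rw [this, Category.comp_id]

end Groth.Agent.Curves.K323.ExtLift
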