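import Groth.Agent.Curves.K323.PtIdeal
import Groth.Agent.S1524
import Groth.Agent.S0047
import Groth.Agent.VarietyA.EulerFinite
import Groth.Agent.CurvesB.HZero
import Groth.Agent.VarietyA.CurveFin

/-!
# The ideal of a closed point on a proper scheme over a field has negative degree
-/

set_option autoImplicit false
universe u
open CategoryTheory CategoryTheory.Limits AlgebraicGeometry TopologicalSpace Opposite

namespace Groth.Agent.Curves.K323.PtDeg

open Groth.Agent.Curves.K323.PtIdeal Groth.Agent.VarietyA.LocFreeTens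

theorem subsingleton_quotMod (X : Scheme.{u}) [IsNoetherian X] (x : X) (hx : IsClosed ({x} : Set X)) (i : ℕ) (hi : 0 < i) :
    Subsingleton (Coh.HH X (ClSub.quotMod (pt x hx)) i) := by
  refine Groth.Agent.S0047.result X _ (VarietyB.DegCartier.isCoh_quotMod _) ?_ i hi
  intro y hy
  by_cases h : y = x
  · rw [h]; exact hx
  · exact absurd (subsingleton_stalk x hx y h) hy

theorem nontrivial_quotMod (X : Scheme.{u}) (D : X.IdealSheafData) (h : Nonempty D.subscheme) :
    Nontrivial (Coh.HH X (ClSub.quotMod D) 0) := by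
  have : Nontrivial Γ(ClSub.quotMod D, ⊤) := by
    change Nontrivial Γ(D.subscheme, D.subschemeι ⁻¹ᵁ ⊤)
    obtain ⟨z⟩ := h
    have : Nonempty (D.subschemeι ⁻¹ᵁ (⊤ : X.Opens)) := ⟨⟨z, trivial⟩⟩
    infer_instance
  exact (CurvesB.HZero.equivAdd (ClSub.quotMod D)).toEquiv.nontrivial

variable (k : Type u) [Field k] (X : Scheme.{u}) [X.Over (Spec (CommRingCat.of k))]
  [IsProper (X ↘ (Spec (CommRingCat.of k)))]

include k in
theorem isNoetherian : IsNoetherian X := by
  have : IsLocallyNoetherian X := LocallyOfFiniteType.isLocallyNoetherian (X ↘ (Spec (CommRingCat.of k)))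
  have : CompactSpace X := QuasiCompact.compactSpace_of_compactSpace (X ↘ (Spec (CommRingCat.of k)))
  exact {}

theorem pos_finrank_quotMod (x : X) (hx : IsClosed ({x} : Set X)) :
    0 < Module.finrank k (Coh.HH X (ClSub.quotMod (pt x hx)) 0) := by
  have h1 : Module.Finite k (Coh.HH X (ClSub.quotMod (pt x hx)) 0) :=
    S0002.result k X _ (VarietyB.DegCartier.isCoh_quotMod _) 0
  have h2 := nontrivial_quotMod X (pt x hx) (by
    have : x ∈ Set.range (pt x hx).subschemeι := by rw [range_pt]; rfl
    exact ⟨this.choose⟩)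
  exact Module.finrank_pos

/-- The ideal of a closed point has degree `- dim H^0(O/I)`. -/
theorem deg_idealMod (x : X) (hx : IsClosed ({x} : Set X)) :
    Curv2.deg k X (ClSub.idealMod (pt x hx)) 1 =
      - (Module.finrank k (Coh.HH X (ClSub.quotMod (pt x hx)) 0) : ℤ) := by
  have := isNoetherian k X
  have h := S1524.result k X _ (VarietyB.DegCartier.idealSeq_shortExact (pt x hx))
    (VarietyB.DegCartier.isCoh_idealMod _) (CurvesB.UnitCoh.isCoh_structureModule X)
    (VarietyB.DegCartier.isCoh_quotMod _)
  have h2 := VarietyA.EulerFinite.euler_eq_of_vanish k X (ClSub.quotMod (pt x hx))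
    (fun i hi => subsingleton_quotMod X x hx i hi)
  rw [Curv2.deg]
  change Curv2.euler k X (Coh.structureModule X) = Curv2.euler k X (ClSub.idealMod (pt x hx)) +
    Curv2.euler k X (ClSub.quotMod (pt x hx)) at h
  rw [h2] at h
  rw [h]
  push_cast
  ring

theorem deg_idealMod_neg (x : X) (hx : IsClosed ({x} : Set X)) :
    Curv2.deg k X (ClSub.idealMod (pt x hx)) 1 < 0 := by
  rw [deg_idealMod]
  have := pos_finrank_quotMod k X x hx
  omega

end Groth.Agent.Curves.K323.PtDeg
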