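import Groth.Agent.Curves.K323.PtIdeal
import Groth.Agent.VarietyB.ExactLoc
import Groth.Agent.Sga67.TensorOps
import Groth.Agent.VarietyA.LocFreeTens
import Groth.Agent.Ega2.TensMon
import Groth.Agent.Dcoh.FinLocFree
import Groth.Agent.CurvesB.HZero

/-!
# Sections of locally free modules vanishing at a closed point

`E` locally free of rank `n`, `x` a closed point with ideal `I`, `s : O → E`.  If the value of `s` at `x` is
zero then `s` comes from a section of `E ⊗ I`.
-/

set_option autoImplicit false
universe u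
open CategoryTheory CategoryTheory.Limits AlgebraicGeometry TopologicalSpace Opposite

namespace Groth.Agent.Curves.K323.SecLift

open Groth.Agent.CycB.StalkExact Groth.Agent.Curves.K323.PtIdeal Groth.Agent.VarietyA.LocFreeTens
open Groth.Agent.VarietyB.ExactLoc Groth.Agent.Sga67.ExtSheaf Groth.Agent.Sga67.TensorOps

variable {X : Scheme.{u}}

/-- A morphism of modules which vanishes on stalks is zero. -/
theorem eq_zero_of_stalkLin {M N : X.Modules} (φ : M ⟶ N) (h : ∀ x, stalkLin φ x = 0) : φ = 0 := by
  ext U s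
  refine eq_zero_of_germ _ fun x hx => ?_
  rw [← stalkLin_germ, h x]
  rfl

/-- The value of a section in the stalk. -/
noncomputable def val {E : X.Modules} (s : Coh.structureModule X ⟶ E) (x : X) : E.presheaf.stalk x :=
  stalkLin s x (Fdesc.StructMod.stalkEquiv x 1)

theorem stalkLin_stalkEquiv {E : X.Modules} (s : Coh.structureModule X ⟶ E) (x : X)
    (a : X.presheaf.stalk x) : stalkLin s x (Fdesc.StructMod.stalkEquiv x a) = a • val s x := by
  rw [val, ← map_smul, ← map_smul, smul_eq_mul, mul_one]

variable {n : ℕ} {E : X.Modules}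

/-- The composite `O → E ≅ E ⊗ O → E ⊗ F`. -/
noncomputable def through (s : Coh.structureModule X ⟶ E) {F : X.Modules}
    (q : Coh.structureModule X ⟶ F) : Coh.structureModule X ⟶ CohB1.tensorMod E F :=
  s ≫ (Ega2.Tens.runit E).inv ≫ tmap E q

theorem through_eq_zero (hE : FlatMod.IsFinLocFreeOfRank n E) (s : Coh.structureModule X ⟶ E) (x : X)
    (hx : IsClosed ({x} : Set X))
    (hv : val s x ∈ IsLocalRing.maximalIdeal (X.presheaf.stalk x) •
      (⊤ : Submodule (X.presheaf.stalk x) (E.presheaf.stalk x))) :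
    through s (ClSub.toSubscheme (pt x hx)) = 0 := by
  refine eq_zero_of_stalkLin _ fun y => ?_
  by_cases hy : y = x
  · subst hy
    obtain ⟨e⟩ := nonempty_stalk_equiv hE (ClSub.quotMod (pt y hx)) y
    let G := stalkLin ((Ega2.Tens.runit E).inv ≫ tmap E (ClSub.toSubscheme (pt y hx))) y
    have hG : ∀ v ∈ IsLocalRing.maximalIdeal (X.presheaf.stalk y) •
        (⊤ : Submodule (X.presheaf.stalk y) (E.presheaf.stalk y)), G v = 0 := by
      intro v hv
      refine Submodule.smul_induction_on hv ?_ ?_
      · intro r hr m _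
        rw [map_smul]
        apply e.injective
        rw [map_smul, map_zero]
        funext i
        exact smul_stalk y hx r hr _
      · intro a b ha hb
        rw [map_add, ha, hb, add_zero]
    ext t
    obtain ⟨a, rfl⟩ := (Fdesc.StructMod.stalkEquiv y).surjective t
    rw [through, stalkLin_comp]
    change G (stalkLin s y (Fdesc.StructMod.stalkEquiv y a)) = 0
    rw [stalkLin_stalkEquiv, map_smul, hG _ hv, smul_zero]
  · have h1 := subsingleton_stalk x hx y hy
    have := subsingleton_stalk_tensor hE (ClSub.quotMod (pt x hx)) y h1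
    ext t
    exact @Subsingleton.elim _ this _ _

theorem isFinLocFree (hE : FlatMod.IsFinLocFreeOfRank n E) : FlatMod.IsFinLocFree E := fun x => by
  obtain ⟨U, hx, e⟩ := hE x
  exact ⟨U, n, hx, e⟩

theorem tensSeq_shortExact (hE : FlatMod.IsFinLocFreeOfRank n E) (D : X.IdealSheafData) :
    (tensorShort E (VarietyB.DegCartier.idealSeq D)).ShortExact :=
  tensor_shortExact (isFinLocFree hE) (VarietyB.DegCartier.idealSeq_shortExact D)

/-- A section vanishing at a closed point comes from `E ⊗ I`. -/
theorem exists_lift (hE : FlatMod.IsFinLocFreeOfRank n E) (s : Coh.structureModule X ⟶ E) (x : X)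
    (hx : IsClosed ({x} : Set X))
    (hv : val s x ∈ IsLocalRing.maximalIdeal (X.presheaf.stalk x) •
      (⊤ : Submodule (X.presheaf.stalk x) (E.presheaf.stalk x))) :
    ∃ t : Coh.structureModule X ⟶ CohB1.tensorMod E (ClSub.idealMod (pt x hx)),
      t ≫ tmap E (ClSub.idealModι (pt x hx)) ≫ (Ega2.Tens.runit E).hom = s := by
  have h := tensSeq_shortExact hE (pt x hx)
  have h0 := through_eq_zero hE s x hx hv
  rw [through, ← Category.assoc] at h0
  have := h.mono_f
  let l : Coh.structureModule X ⟶ CohB1.tensorMod E (ClSub.idealMod (pt x hx)) :=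
    h.exact.lift (s ≫ (Ega2.Tens.runit E).inv) h0
  have hl : l ≫ tmap E (ClSub.idealModι (pt x hx)) =
    s ≫ (Ega2.Tens.runit E).inv := h.exact.lift_f _ _
  refine ⟨l, ?_⟩
  rw [← Category.assoc, hl, Category.assoc, Iso.inv_hom_id, Category.comp_id]

/-- A nonzero section gives a nonzero element of `H^0`. -/
theorem nontrivial_hh {F : X.Modules} (t : Coh.structureModule X ⟶ F) (ht : t ≠ 0) :
    Nontrivial (Coh.HH X F 0) := by
  have : Nontrivial Γ(F, ⊤) := by
    refine ⟨Dcoh.FinLocFree.unitSec t, 0, fun h => ht ?_⟩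
    apply Dcoh.FinLocFree.hom_ext_unit
    rw [h]
    exact (map_zero (Dcoh.FinLocFree.unitEquiv F)).symm
  exact (CurvesB.HZero.equivAdd F).toEquiv.nontrivial

end Groth.Agent.Curves.K323.SecLift
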