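import Groth.Agent.Curves.K323.LocAlg
import Groth.Agent.Curves.K323.PtDeg
import Groth.Agent.Curves.K323.SecLift
import Groth.Agent.Curves.K323.CurvePts

/-!
# Nonzero sections of normalized modules of rank two on a curve
-/

set_option autoImplicit false
universe u
open CategoryTheory CategoryTheory.Limits AlgebraicGeometry TopologicalSpace Opposite

namespace Groth.Agent.Curves.K323.RankTwo

open Groth.Agent.CycB.StalkExact Groth.Agent.Curves.K323.PtIdeal Groth.Agent.VarietyA.LocFreeTens
open Groth.Agent.Curves.K323.SecLift Groth.Agent.Sga67.ExtSheaf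

variable {X : Scheme.{u}}

theorem isCoh_of_rank [IsLocallyNoetherian X] {n : ℕ} {E : X.Modules}
    (hE : FlatMod.IsFinLocFreeOfRank n E) : Coh.IsCoh E :=
  VarietyA.EulerFinite.isCoh_of_iso (Ega2.Tens.runit E)
    (isCoh_tensor hE (CurvesB.UnitCoh.isCoh_structureModule X))

/-- If the value of a section of a module of rank two is nonzero at every point, the cokernel is invertible. -/
theorem isInvertible_cokernel [IsLocallyNoetherian X] {E : X.Modules}
    (hE : FlatMod.IsFinLocFreeOfRank 2 E) (s : Coh.structureModule X ⟶ E)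
    (h : ∀ x : X, val s x ∉ IsLocalRing.maximalIdeal (X.presheaf.stalk x) •
      (⊤ : Submodule (X.presheaf.stalk x) (E.presheaf.stalk x))) :
    PicF.IsInvertible (cokernel s) := by
  have key : ∀ x : X, Nonempty ((cokernel s).presheaf.stalk x ≃ₗ[X.presheaf.stalk x]
      X.presheaf.stalk x) := by
    intro x
    obtain ⟨U, hxU, ⟨e⟩⟩ := hE x
    obtain ⟨b⟩ := CurvesB.OmegaInv.nonempty_basis_stalk e x hxU
    refine LocAlg.nonempty_equiv_of_exact b (val s x) (h x) (stalkLin (cokernel.π s) x)
      (stalkLin_surjective (cokernel.π s) x) ?_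
    have hex : (ShortComplex.mk s (cokernel.π s) (cokernel.condition s)).Exact :=
      ShortComplex.exact_cokernel s
    have h2 := stalkLin_exact _ hex x
    ext v
    rw [LinearMap.mem_ker, Submodule.mem_span_singleton]
    refine (h2 v).trans ?_
    constructor
    · rintro ⟨t, rfl⟩
      obtain ⟨a, rfl⟩ := (Fdesc.StructMod.stalkEquiv x).surjective t
      exact ⟨a, (stalkLin_stalkEquiv s x a).symm⟩
    · rintro ⟨a, rfl⟩
      exact ⟨Fdesc.StructMod.stalkEquiv x a, stalkLin_stalkEquiv s x a⟩
  refine CurvesB.OmegaInv.isInvertible_of_stalks (CycB.CohProp.isCoh_cokernel s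
    (CurvesB.UnitCoh.isCoh_structureModule X) (isCoh_of_rank hE)) (fun y => ?_) (fun y => ?_)
  · obtain ⟨e⟩ := key y
    exact Module.Free.of_equiv e.symm
  · obtain ⟨e⟩ := key y
    rw [e.finrank_eq, Module.finrank_self]

/-- The value of a section is the germ of the corresponding global section. -/
theorem val_eq_germ {E : X.Modules} (s : Coh.structureModule X ⟶ E) (y : X) :
    val s y = E.presheaf.germ ⊤ y (Opens.mem_top y)
      (s.app ⊤ ((Fdesc.StructMod.sectionsEquiv ⊤).symm 1)) := by
  have h1 := Fdesc.StructMod.stalkEquiv_germ y (Opens.mem_top y) (1 : Γ(X, ⊤))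
  rw [map_one] at h1
  have h2 := stalkLin_germ s y (Opens.mem_top y) ((Fdesc.StructMod.sectionsEquiv ⊤).symm 1)
  exact (congrArg (stalkLin s y) h1).trans h2

theorem val_zero_of_germ {E : X.Modules} (s : Coh.structureModule X ⟶ E) (x : X) (h : val s x = 0) :
    ∃ U : X.Opens, x ∈ U ∧ ∀ y ∈ U, val s y = 0 := by
  rw [val_eq_germ] at h
  obtain ⟨W, hxW, i, i', hW⟩ := E.presheaf.germ_eq x (Opens.mem_top x) (Opens.mem_top x) _ 0
    (by rw [h, map_zero])
  refine ⟨W, hxW, fun y hy => ?_⟩
  rw [val_eq_germ, ← TopCat.Presheaf.germ_res_apply E.presheaf i y hy, hW, map_zero, map_zero]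

/-- A nonzero section of a normalized module does not vanish at any point. -/
theorem val_notMem (k : Type u) [Field k] [PerfectField k] (X : Scheme.{u})
    [X.Over (Spec (CommRingCat.of k))]
    [IsIntegral X] [IsProper (X ↘ (Spec (CommRingCat.of k)))] (hdim : topologicalKrullDim X = 1)
    (hreg : ∀ x : X, IsRegularLocalRing (X.presheaf.stalk x))
    {n : ℕ} (E : X.Modules) (hE : FlatMod.IsFinLocFreeOfRank n E)
    (hneg : ∀ M : X.Modules, PicF.IsInvertible M → Curv2.deg k X M 1 < 0 →
      Subsingleton (Coh.HH X (CohB1.tensorMod E M) 0))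
    (s : Coh.structureModule X ⟶ E) (hs : s ≠ 0) (x : X) :
    val s x ∉ IsLocalRing.maximalIdeal (X.presheaf.stalk x) •
      (⊤ : Submodule (X.presheaf.stalk x) (E.presheaf.stalk x)) := by
  have := PtDeg.isNoetherian k X
  have hcl : ∀ x : X, IsClosed ({x} : Set X) →
      val s x ∉ IsLocalRing.maximalIdeal (X.presheaf.stalk x) •
      (⊤ : Submodule (X.presheaf.stalk x) (E.presheaf.stalk x)) := by
    intro x hx hv
    have hg := CurvePts.ne_genericPoint X hdim x hx
    have := CurvePts.isDVR k X hdim.le hreg x hg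
    obtain ⟨t, ht⟩ := exists_lift hE s x hx hv
    have h1 := hneg _ (isInvertible_idealMod x hx) (PtDeg.deg_idealMod_neg k X x hx)
    have h2 := nontrivial_hh t (by
      rintro rfl
      apply hs
      rw [← ht, zero_comp])
    exact not_subsingleton _ h1
  by_cases hx : x = genericPoint X
  · subst hx
    intro hv
    have hb : IsLocalRing.maximalIdeal (X.presheaf.stalk (genericPoint X)) = ⊥ :=
      IsLocalRing.maximalIdeal_eq_bot (R := X.functionField)
    rw [hb, Submodule.bot_smul, Submodule.mem_bot] at hv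
    obtain ⟨U, hU, h⟩ := val_zero_of_germ s _ hv
    obtain ⟨y, hyU, hy⟩ := CurvePts.exists_closed_mem k X U ⟨_, hU⟩
    apply hcl y hy
    rw [h y hyU]
    exact Submodule.zero_mem _
  · exact hcl x (CurvePts.isClosed_of_ne X hdim.le x hx)

end Groth.Agent.Curves.K323.RankTwo
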