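import Groth.Agent.Curves.K323.TwistBack
import Groth.Agent.Curves.K323.RankTwo
import Groth.Agent.S1520
import Groth.Agent.S1521
import Groth.Agent.VarietyA.TorsionVanish
import Groth.Agent.Old.H24.LinearSeries
import Groth.Agent.Grpsch.PicGrp

/-!
# Extensions of degree zero line bundles on a curve of genus one
-/

set_option autoImplicit false
universe u
open CategoryTheory CategoryTheory.Limits AlgebraicGeometry TopologicalSpace Opposite

namespace Groth.Agent.Curves.K323.GenusOneExt

open Groth.Agent.VarietyA.EulerLES Groth.Agent.Dcoh.FinLocFree Groth.Agent.Ega2.Tens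
open Groth.Agent.Curves.K323

variable (k : Type u) [Field k] {X : Scheme.{u}} [X.Over (Spec (CommRingCat.of k))]

theorem euler_eq [IsNoetherian X] (hdim : topologicalKrullDim X = 1) (F : X.Modules) :
    Curv2.euler k X F = (Module.finrank k (Coh.HH X F 0) : ℤ) - Module.finrank k (Coh.HH X F 1) := by
  rw [VarietyA.EulerAdd.euler_eq_sum k F 2
    (fun i hi => VarietyA.TorsionVanish.subsingleton_of_two_le hdim.le F i hi),
    Finset.sum_range_succ, Finset.sum_range_one]
  ring

variable [IsIntegral X] [IsProper (X ↘ (Spec (CommRingCat.of k)))]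

/-- A nonzero map between invertible modules of the same degree is an isomorphism. -/
theorem isIso_of_ne_zero (hdim : topologicalKrullDim X = 1) {N L : X.Modules}
    (hN : PicF.IsInvertible N) (hL : PicF.IsInvertible L)
    (h : Curv2.deg k X N 1 = Curv2.deg k X L 1) (φ : N ⟶ L) (hφ : φ ≠ 0) : IsIso φ :=
  (S1521.result k X hdim N L hN hL φ hφ).2 h

omit [IsIntegral X] in
/-- On a curve with `χ(O) = 0` an invertible module of degree zero without sections has `H^1 = 0`. -/
theorem subsingleton_h1 (hdim : topologicalKrullDim X = 1)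
    (hχ : Curv2.euler k X (Coh.structureModule X) = 0) {M : X.Modules} (hM : PicF.IsInvertible M)
    (hdeg : Curv2.deg k X M 1 = 0) (h0 : Subsingleton (Coh.HH X M 0)) :
    Subsingleton (Coh.HH X M 1) := by
  have := PtDeg.isNoetherian k X
  have h1 : Module.Finite k (Coh.HH X M 1) := VarietyA.CurveFin.finite_HH k X hM 1
  have h2 := euler_eq k hdim M
  rw [Curv2.deg, hχ] at hdeg
  rw [Module.finrank_zero_of_subsingleton] at h2
  have h3 : Module.finrank k (Coh.HH X M 1) = 0 := by
    push_cast at h2 hdeg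
    have : (Module.finrank k (Coh.HH X M 1) : ℤ) = 0 := by linarith
    exact_mod_cast this
  exact Module.finrank_zero_iff.mp h3

omit k [Field k] [X.Over (Spec (CommRingCat.of k))] [IsIntegral X] [IsProper (X ↘ (Spec (CommRingCat.of k)))] in
theorem exists_section {F : X.Modules} (h : ¬ Subsingleton (Coh.HH X F 0)) :
    ∃ s : Coh.structureModule X ⟶ F, s ≠ 0 := by
  by_contra hc
  push Not at hc
  apply h
  have h1 : Subsingleton Γ(F, ⊤) := ⟨fun a b => by
    rw [← (unitEquiv F).apply_symm_apply a, ← (unitEquiv F).apply_symm_apply b,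
      hc ((unitEquiv F).symm a), hc ((unitEquiv F).symm b)]⟩
  exact (CurvesB.HZero.equivAdd F).toEquiv.subsingleton

/-- In a nonsplit extension of an invertible module of degree zero by `O` on a curve with `χ(O) = 0`, the
quotient is trivial. -/
theorem nonempty_iso_of_nonsplit (hdim : topologicalKrullDim X = 1)
    (hχ : Curv2.euler k X (Coh.structureModule X) = 0) (S : ShortComplex X.Modules) (hS : S.ShortExact)
    (e1 : S.X₁ ≅ Coh.structureModule X) (hN : PicF.IsInvertible S.X₃)
    (hdeg : Curv2.deg k X S.X₃ 1 = 0) (hns : IsEmpty S.Splitting) :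
    Nonempty (S.X₃ ≅ Coh.structureModule X) := by
  obtain ⟨M, hM, ⟨e⟩⟩ := Grpsch.PicGrp.exists_inverse hN
  have hd := Old.H24.LinearSeries.deg_tensor k hdim.le hN hM
  have hO : Curv2.deg k X (Coh.structureModule X) 1 = 0 := by simp [Curv2.deg]
  have hd2 : Curv2.deg k X (CohB1.tensorMod S.X₃ M) 1 = Curv2.deg k X (Coh.structureModule X) 1 := by
    rw [Curv2.deg, Curv2.deg, VarietyA.EulerAdd.euler_congr k e]
  rw [hd2, hO, hdeg, zero_add] at hd
  by_cases h0 : Subsingleton (Coh.HH X M 0)
  · exfalso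
    have h1 := subsingleton_h1 k hdim hχ hM hd.symm h0
    have h2 : Subsingleton (Coh.HH X (CohB1.tensorMod M S.X₁) 1) :=
      (equivΓ ((mapTIso (Iso.refl M) e1) ≪≫ runit M) 1).toEquiv.subsingleton
    have h3 := TwistBack.nonempty_splitting e S hS
      (SecLift.isFinLocFree (VarietyB.DegCartier.isFinLocFreeOfRank_one hM))
      (e.symm ≪≫ swap _ _) h2
    exact hns.false h3.some
  · obtain ⟨s, hs⟩ := exists_section h0
    obtain ⟨e'⟩ := S1520.result k X hdim M hM s hs hd.symm.le
    exact ⟨(runit S.X₃).symm ≪≫ mapTIso (Iso.refl _) e'.symm ≪≫ e⟩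

omit [IsIntegral X] [IsProper (X ↘ (Spec (CommRingCat.of k)))] in
/-- If `h^1(A) = 1` and `H^1(A) → H^1(B)` is not injective, it is zero. -/
theorem mapΓ_eq_zero {A B : X.Modules} (f : A ⟶ B) (h1 : Module.finrank k (Coh.HH X A 1) = 1)
    (h : ¬ Function.Injective (mapΓ f 1)) : mapΓ f 1 = 0 := by
  rw [injective_iff_map_eq_zero] at h
  push Not at h
  obtain ⟨v, hv, hv0⟩ := h
  ext w
  obtain ⟨c, hc⟩ := (finrank_eq_one_iff_of_nonzero' v hv0).mp h1 w
  have h2 := map_smul (mapA k f 1) c v
  rw [hc] at h2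
  have h3 : mapA k f 1 v = 0 := hv
  rw [h3, smul_zero] at h2
  exact h2

/-- A map of extensions which is an isomorphism on the subobjects, the source being nonsplit. -/
theorem isIso_of_lift {C : Type*} [Category C] [Abelian C] (S S' : ShortComplex C) (hS : S.ShortExact)
    (hS' : S'.ShortExact) (u : S.X₁ ≅ S'.X₁) (h : S.X₂ ⟶ S'.X₂) (w : S.f ≫ h = u.hom ≫ S'.f)
    (hns : IsEmpty S.Splitting) (hc : ∀ c : S.X₃ ⟶ S'.X₃, c ≠ 0 → IsIso c) : IsIso h := by
  have w0 : S.f ≫ h ≫ S'.g = 0 := by
    rw [← Category.assoc, w, Category.assoc, S'.zero, comp_zero]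
  have := hS.epi_g
  have := hS.mono_f
  have := hS'.mono_f
  let c : S.X₃ ⟶ S'.X₃ := hS.exact.desc (h ≫ S'.g) w0
  have hc' : S.g ≫ c = h ≫ S'.g := hS.exact.g_desc _ w0
  by_cases hz : c = 0
  · exfalso
    rw [hz, comp_zero] at hc'
    let r : S.X₂ ⟶ S'.X₁ := hS'.exact.lift h hc'.symm
    have hr : r ≫ S'.f = h := hS'.exact.lift_f _ _
    have h1 : S.f ≫ r = u.hom := by
      rw [← cancel_mono S'.f, Category.assoc, hr, w]
    exact hns.false (ShortComplex.Splitting.ofExactOfRetraction S hS.exact (r ≫ u.inv)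
      (by rw [← Category.assoc, h1, Iso.hom_inv_id]) inferInstance)
  · have hi := hc c hz
    let φ : S ⟶ S' :=
      { τ₁ := u.hom
        τ₂ := h
        τ₃ := c
        comm₁₂ := w.symm
        comm₂₃ := hc'.symm }
    exact ShortComplex.isIso₂_of_shortExact_of_isIso₁₃' φ hS hS' (inferInstanceAs (IsIso u.hom)) hi

/-- Two nonsplit extensions of invertible modules of degree zero by `O` on a curve of genus one with
`h^0(O) = 1` are isomorphic. -/
theorem nonempty_iso (hdim : topologicalKrullDim X = 1)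
    (hχ : Curv2.euler k X (Coh.structureModule X) = 0)
    (hg : Module.finrank k (Coh.HH X (Coh.structureModule X) 1) = 1)
    (S S' : ShortComplex X.Modules) (hS : S.ShortExact) (hS' : S'.ShortExact)
    (e1 : S.X₁ ≅ Coh.structureModule X) (e1' : S'.X₁ ≅ Coh.structureModule X)
    (hN : PicF.IsInvertible S.X₃) (hN' : PicF.IsInvertible S'.X₃)
    (hdeg : Curv2.deg k X S.X₃ 1 = 0) (hdeg' : Curv2.deg k X S'.X₃ 1 = 0)
    (hns : IsEmpty S.Splitting) (hns' : IsEmpty S'.Splitting) : Nonempty (S.X₂ ≅ S'.X₂) := by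
  obtain ⟨e3⟩ := nonempty_iso_of_nonsplit k hdim hχ S hS e1 hN hdeg hns
  obtain ⟨e3'⟩ := nonempty_iso_of_nonsplit k hdim hχ S' hS' e1' hN' hdeg' hns'
  have hz : ∀ (T : ShortComplex X.Modules), T.ShortExact → (T.X₁ ≅ Coh.structureModule X) →
      (T.X₃ ≅ Coh.structureModule X) → IsEmpty T.Splitting → mapΓ T.f 1 = 0 := by
    intro T hT a b hT'
    refine mapΓ_eq_zero k T.f ?_ ?_
    · rw [(equivA k a 1).finrank_eq, hg]
    · intro hinj
      exact hT'.false (ExtLift.nonempty_splitting T hT hinj b.symm).some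
  have hf := hz S hS e1 e3 hns
  have hf' := hz S' hS' e1' e3' hns'
  obtain ⟨h, hh⟩ := ExtLift.exists_extend S hS e3.symm hf ((e1 ≪≫ e1'.symm).hom ≫ S'.f)
    (by rw [mapΓ_comp, hf', LinearMap.zero_comp])
  have := isIso_of_lift S S' hS hS' (e1 ≪≫ e1'.symm) h hh hns
    (fun c hc => isIso_of_ne_zero k hdim hN hN' (hdeg.trans hdeg'.symm) c hc)
  exact ⟨asIso h⟩

end Groth.Agent.Curves.K323.GenusOneExt
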