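import Groth.Agent.Curves.K323.LinStabCD
import Groth.Agent.Curves.K319.HomSub

/-!
# Linear stability of linear series
-/

set_option autoImplicit false
universe u

open CategoryTheory CategoryTheory.Limits AlgebraicGeometry TopologicalSpace IsLocalRing Opposite

namespace Groth.Agent.Curves.K323.LinStab

open Groth.Agent Groth.Agent.Fdesc.LocGen K319.Setup K319.PicCD Groth.Agent.Grpsch.PicGrp K532.CurvePic
open K319.HomSub Groth.Agent.Curves.K323.LinStabCD

variable (k : Type u) [Field k] [IsAlgClosed k] {X : Scheme.{u}} [X.Over (Spec (CommRingCat.of k))]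
  [IsIntegral X] [IsProper (X ↘ (Spec (CommRingCat.of k)))]

/-- Series of degree more than `2g` are linearly stable. -/
theorem stable_of_two_genus_lt (hX : Reg X) (hg : 1 ≤ Curv2.genus k X) {L : X.Modules} (hL : PicF.IsInvertible L)
    (hdeg : 2 * (Curv2.genus k X : ℤ) < Curv2.deg k X L 1)
    {M : X.Modules} (hM : PicF.IsInvertible M) (ι : M ⟶ L) [Mono ι] (hι : ¬ IsIso ι)
    (h2 : 2 ≤ Module.finrank k (Coh.HH X M 0)) :
    Curv2.deg k X L 1 * ((Module.finrank k (Coh.HH X M 0) : ℤ) - 1) <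
      Curv2.deg k X M 1 * ((Module.finrank k (Coh.HH X L 0) : ℤ) - 1) := by
  have hlt : Curv2.deg k X M 1 < Curv2.deg k X L 1 := by
    by_contra hcon
    exact hι (isIso_of_deg k hX hM hL ι (not_lt.mp hcon))
  set C := cd k X hX with hC
  have hgC : C.g = Curv2.genus k X := rfl
  have e1 : C.h (Additive.ofMul (mk M hM)) = Module.finrank k (Coh.HH X M 0) := h_mk k X 0 hM
  have e2 : C.deg (Additive.ofMul (mk M hM)) = Curv2.deg k X M 1 := deg_mk k X hX.dim hM
  have e3 : C.h (Additive.ofMul (mk L hL)) = Module.finrank k (Coh.HH X L 0) := h_mk k X 0 hL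
  have e4 : C.deg (Additive.ofMul (mk L hL)) = Curv2.deg k X L 1 := deg_mk k X hX.dim hL
  set a := Additive.ofMul (mk M hM)
  set b := Additive.ofMul (mk L hL)
  rw [← e1, ← e2, ← e3, ← e4]
  rw [← e1] at h2
  rw [← e4, ← hgC] at hdeg
  rw [← e2, ← e4] at hlt
  rw [← hgC] at hg
  have h3 : C.h (C.K - b) = 0 := C.h_neg _ (by rw [map_sub, C.deg_K]; linarith)
  have h4 := h_dual C b
  rw [h3] at h4
  have h5 : (C.h b : ℤ) - 1 = C.deg b - C.g := by push_cast at h4; linarith
  rw [h5]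
  by_cases h6 : C.h (C.K - a) = 0
  · have h7 := h_dual C a
    rw [h6] at h7
    have h8 : (C.h a : ℤ) - 1 = C.deg a - C.g := by push_cast at h7; linarith
    rw [h8]
    have : (0 : ℤ) < C.g := by omega
    nlinarith
  · have h7 := (C.clifford a (by omega) h6).2
    have h8 : (2 : ℤ) ≤ C.h a := by exact_mod_cast h2
    nlinarith

/-- the numerical data of a subsheaf of the canonical sheaf -/
theorem sub_omega (hX : Reg X) {M : X.Modules} (hM : PicF.IsInvertible M)
    (ι : M ⟶ Omega.sheaf (X ↘ (Spec (CommRingCat.of k)))) [Mono ι] :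
    (cd k X hX).h ((cd k X hX).K - Additive.ofMul (mk M hM)) ≠ 0 :=
  (h_div_ne_zero_iff k hX hM (isInvertible_omega (hX.isCurve (k := k)))).mpr ⟨ι, ne_zero_of_mono hM ι⟩

theorem le_finrank_of_lift (hX : Reg X) {M L : X.Modules} (hM : PicF.IsInvertible M) (ι : M ⟶ L)
    {m : ℕ} {w : Fin m → LinSer.Sect X L} (hw : LinSer.LinIndep k X L w)
    (hv : ∀ j, ∃ v : LinSer.Sect X M, (ι.val.app (op ⊤)).hom v = w j) :
    m ≤ Module.finrank k (Coh.HH X M 0) := by
  choose v hv using hv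
  have hfin := finite_HH (hX.isCurve (k := k)) hM 0
  have h1 : LinSer.LinIndep k X M v := by
    intro c hc
    refine hw c ?_
    have h2 := congrArg (ι.val.app (op ⊤)).hom hc
    rw [map_sum, map_zero] at h2
    rw [← h2]
    refine Finset.sum_congr rfl fun j _ => ?_
    rw [← hv j]
    exact ((ι.val.app (op ⊤)).hom.map_smul _ _).symm
  have h3 := ((K319.LinS.linIndep_iff k M v).mp h1).fintype_card_le_finrank
  simpa using h3

theorem exists_linSer (hX : Reg X) (d : ℕ) (c : Additive (Pic X)) (hc1 : (cd k X hX).deg c = d)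
    (hc2 : 2 ≤ (cd k X hX).h c) :
    ∃ (N : X.Modules) (t : Fin 2 → LinSer.Sect X N), LinSer.IsLinSer k X N d 1 t := by
  obtain ⟨N, hN, hcN⟩ := exists_mk c.toMul
  have hfin := finite_HH (hX.isCurve (k := k)) hN 0
  have hdN : Curv2.deg k X N 1 = (d : ℕ) := by
    rw [← deg_mk k X hX.dim hN, ← hcN]
    exact hc1
  have hhN : 1 + 1 ≤ Module.finrank k (Coh.HH X N 0) := by
    rw [← h_mk k X 0 hN, ← hcN]
    exact hc2
  obtain ⟨s, hs⟩ := K319.LinS.exists_isLinSer k N hN d 1 hdN hhN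
  exact ⟨N, s, hs⟩

theorem no_linSer (hX : Reg X) (d : ℕ)
    (hn : ¬ ∃ (N : X.Modules) (t : Fin 2 → LinSer.Sect X N), LinSer.IsLinSer k X N d 1 t) :
    ¬ ∃ a, (cd k X hX).deg a = d ∧ 2 ≤ (cd k X hX).h a :=
  fun ⟨a, h1, h2⟩ => hn (exists_linSer k hX d a h1 h2)

/-- Projections of a plane quintic: the numerical statement. -/
theorem semistable_genus_six (hX : Reg X) (hg : Curv2.genus k X = 6)
    (hnh : ¬ ∃ (N : X.Modules) (t : Fin 2 → LinSer.Sect X N), LinSer.IsLinSer k X N 2 1 t)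
    (hnt : ¬ ∃ (N : X.Modules) (t : Fin 2 → LinSer.Sect X N), LinSer.IsLinSer k X N 3 1 t)
    (m : ℕ) (w : Fin m → LinSer.Sect X (Omega.sheaf (X ↘ (Spec (CommRingCat.of k))))) (hm : 2 ≤ m)
    (hmg : m + 1 < Curv2.genus k X)
    (hw : LinSer.LinIndep k X (Omega.sheaf (X ↘ (Spec (CommRingCat.of k)))) w)
    (M : X.Modules) (ι : M ⟶ Omega.sheaf (X ↘ (Spec (CommRingCat.of k)))) (hM : PicF.IsInvertible M) [Mono ι]
    (hv : ∀ j, ∃ v : LinSer.Sect X M, (ι.val.app (op ⊤)).hom v = w j) :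
    Curv2.deg k X (Omega.sheaf (X ↘ (Spec (CommRingCat.of k)))) 1 * ((m : ℤ) - 1) ≤
      Curv2.deg k X M 1 * ((Curv2.genus k X : ℤ) - 2) := by
  have h0 := le_finrank_of_lift k hX hM ι hw hv
  have hs := sub_omega k hX hM ι
  have hnh' := no_linSer k hX 2 hnh
  have hnt' := no_linSer k hX 3 hnt
  rw [deg_omega k hX]
  set C := cd k X hX with hC
  have hgC : C.g = Curv2.genus k X := rfl
  have e1 : C.h (Additive.ofMul (mk M hM)) = Module.finrank k (Coh.HH X M 0) := h_mk k X 0 hM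
  have e2 : C.deg (Additive.ofMul (mk M hM)) = Curv2.deg k X M 1 := deg_mk k X hX.dim hM
  set a := Additive.ofMul (mk M hM)
  rw [← e2]
  rw [← e1] at h0
  have h1 := h_dual C a
  rw [hgC, hg] at h1
  rw [hg] at hmg ⊢
  push_cast
  by_cases h2 : C.h (C.K - a) = 1
  · rw [h2] at h1
    push_cast at h1
    omega
  · have h3 := cliff_one C hnh' a (by omega) (by omega)
    have h4 := no_low C 3 hnt' (C.K - a) (by omega)
    rw [map_sub, C.deg_K, hgC, hg] at h4
    push_cast at h4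
    omega

/-- Projections of curves of Clifford index at least two: the numerical statement. -/
theorem stable_of_cliff_two (hX : Reg X) (hg : 5 ≤ Curv2.genus k X)
    (hcl : ∀ a, 2 ≤ (cd k X hX).h a → 2 ≤ (cd k X hX).h ((cd k X hX).K - a) →
      2 * ((cd k X hX).h a : ℤ) ≤ (cd k X hX).deg a)
    (m : ℕ) (w : Fin m → LinSer.Sect X (Omega.sheaf (X ↘ (Spec (CommRingCat.of k))))) (hm : 2 ≤ m)
    (hmg : m + 1 < Curv2.genus k X)
    (hw : LinSer.LinIndep k X (Omega.sheaf (X ↘ (Spec (CommRingCat.of k)))) w)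
    (M : X.Modules) (ι : M ⟶ Omega.sheaf (X ↘ (Spec (CommRingCat.of k)))) (hM : PicF.IsInvertible M) [Mono ι]
    (hv : ∀ j, ∃ v : LinSer.Sect X M, (ι.val.app (op ⊤)).hom v = w j) :
    Curv2.deg k X (Omega.sheaf (X ↘ (Spec (CommRingCat.of k)))) 1 * ((m : ℤ) - 1) <
      Curv2.deg k X M 1 * ((Curv2.genus k X : ℤ) - 2) := by
  have h0 := le_finrank_of_lift k hX hM ι hw hv
  have hs := sub_omega k hX hM ι
  rw [deg_omega k hX]
  set C := cd k X hX with hC
  have hgC : C.g = Curv2.genus k X := rfl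
  have e1 : C.h (Additive.ofMul (mk M hM)) = Module.finrank k (Coh.HH X M 0) := h_mk k X 0 hM
  have e2 : C.deg (Additive.ofMul (mk M hM)) = Curv2.deg k X M 1 := deg_mk k X hX.dim hM
  set a := Additive.ofMul (mk M hM)
  rw [← e2]
  rw [← e1] at h0
  have h1 := h_dual C a
  rw [hgC] at h1
  set g := Curv2.genus k X
  have hg' : (5 : ℤ) ≤ g := by exact_mod_cast hg
  have h0' : (m : ℤ) ≤ C.h a := by exact_mod_cast h0
  have hm' : (2 : ℤ) ≤ m := by exact_mod_cast hm
  have hmg' : (m : ℤ) + 2 ≤ g := by omega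
  by_cases h2 : C.h (C.K - a) = 1
  · rw [h2] at h1
    push_cast at h1
    have h3 : C.deg a = C.h a + g - 2 := by linarith
    rw [h3]
    nlinarith
  · have h3 := hcl a (by omega) (by omega)
    nlinarith

/-- The Clifford index is at least two off trigonal curves and plane quintics, from the statement on Clifford index one. -/
theorem cliff_two (hX : Reg X)
    (hnh : ¬ ∃ (N : X.Modules) (t : Fin 2 → LinSer.Sect X N), LinSer.IsLinSer k X N 2 1 t)
    (hone : (∃ M : X.Modules, PicF.IsInvertible M ∧ 2 ≤ Module.finrank k (Coh.HH X M 0) ∧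
      2 ≤ Module.finrank k (Coh.HH X M 1) ∧ Curv2.deg k X M 1 = 2 * (Module.finrank k (Coh.HH X M 0) : ℤ) - 1) →
      (∀ M : X.Modules, PicF.IsInvertible M → 2 ≤ Module.finrank k (Coh.HH X M 0) →
      2 ≤ Module.finrank k (Coh.HH X M 1) → 2 * (Module.finrank k (Coh.HH X M 0) : ℤ) - 1 ≤ Curv2.deg k X M 1) → False) :
    ∀ a, 2 ≤ (cd k X hX).h a → 2 ≤ (cd k X hX).h ((cd k X hX).K - a) →
      2 * ((cd k X hX).h a : ℤ) ≤ (cd k X hX).deg a := by
  intro a h1 h2
  have hnh' := no_linSer k hX 2 hnh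
  have h3 := cliff_one (cd k X hX) hnh' a h1 h2
  have hser : ∀ {M : X.Modules} (hM : PicF.IsInvertible M), Module.finrank k (Coh.HH X M 1) =
      (cd k X hX).h ((cd k X hX).K - Additive.ofMul (mk M hM)) := fun {M} hM => by
    rw [← h_mk k X 1 hM, serre (hX.isCurve (k := k)), ← div_eq_mul_inv]
    rfl
  by_contra hcon
  refine hone ?_ ?_
  · obtain ⟨M, hM, ha⟩ := exists_mk a.toMul
    obtain rfl : a = Additive.ofMul (mk M hM) := ha
    refine ⟨M, hM, ?_, ?_, ?_⟩
    · exact h1.trans (h_mk k X 0 hM).le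
    · rw [hser hM]
      exact h2
    · rw [← deg_mk k X hX.dim hM, ← h_mk k X 0 hM]
      change (cd k X hX).deg (Additive.ofMul (mk M hM)) = 2 * ((cd k X hX).h (Additive.ofMul (mk M hM)) : ℤ) - 1
      omega
  · intro M hM h4 h5
    rw [hser hM] at h5
    have h6 := cliff_one (cd k X hX) hnh' (Additive.ofMul (mk M hM)) (h4.trans (h_mk k X 0 hM).ge) h5
    rw [← deg_mk k X hX.dim hM, ← h_mk k X 0 hM]
    change 2 * ((cd k X hX).h (Additive.ofMul (mk M hM)) : ℤ) - 1 ≤ (cd k X hX).deg (Additive.ofMul (mk M hM))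
    linarith

end Groth.Agent.Curves.K323.LinStab
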