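import Groth.Agent.Curves.K319.CD2

/-!
# Arithmetic of divisor classes: strict Clifford, no `g^1_3`, classes of Clifford index one on trigonal curves
-/

set_option autoImplicit false

namespace Groth.Agent.Curves.K323.LinStabCD

variable {A : Type*} [AddCommGroup A] {pts : Type*} (C : K319.CD A pts)

/-- Clifford's inequality is strict on a non-hyperelliptic curve. -/
theorem cliff_one (hnh : ¬ ∃ a, C.deg a = 2 ∧ 2 ≤ C.h a) (a : A) (h2 : 2 ≤ C.h a) (h2' : 2 ≤ C.h (C.K - a)) :
    2 * (C.h a : ℤ) ≤ C.deg a + 1 := by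
  have h1 := (C.clifford a (by omega) (by omega)).2
  by_contra hcon
  obtain ⟨N, hN, hN2, -⟩ := C.clifford_eq a (by omega) (by omega)
    (by rintro rfl; rw [C.h_zero] at h2; omega)
    (by rintro rfl; rw [sub_self, C.h_zero] at h2'; omega) (by omega)
  exact hnh ⟨N, hN, hN2.ge⟩

theorem h_p_ne_zero (x : pts) : C.h (C.p x) ≠ 0 := by
  have := C.h_le_add_p 0 x
  rw [zero_add, C.h_zero] at this
  omega

/-- If there is no class of degree `d` with two sections, there is none of smaller degree. -/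
theorem no_low (d : ℕ) (hnt : ¬ ∃ a, C.deg a = d ∧ 2 ≤ C.h a) (a : A) (h2 : 2 ≤ C.h a) : (d : ℤ) < C.deg a := by
  by_contra hcon
  have := C.infinite
  obtain ⟨x⟩ : Nonempty pts := inferInstance
  have h0 := C.deg_nonneg (a := a) (by omega)
  obtain ⟨n, hn⟩ := Int.eq_ofNat_of_zero_le (show 0 ≤ (d : ℤ) - C.deg a by omega)
  refine hnt ⟨a + n • C.p x, ?_, ?_⟩
  · rw [map_add, map_nsmul, C.deg_p, nsmul_eq_mul]
    omega
  · exact h2.trans (C.mono a _ (C.nsmul_ne_zero _ (h_p_ne_zero C x) n))

/-- The base point free pencil trick for a class of degree three on a non-hyperelliptic curve. -/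
theorem pencil (hnh : ¬ ∃ a, C.deg a = 2 ∧ 2 ≤ C.h a) (t : A) (ht : C.deg t = 3) (ht2 : C.h t = 2) (a : A) :
    2 * C.h a ≤ C.h (a - t) + C.h (a + t) := by
  classical
  have hnb : ∀ x, C.nb x t := fun x => by
    rw [C.nb_iff]
    have h1 := C.h_le_succ t x
    have h2 : C.h (t - C.p x) < 2 := by
      by_contra hcon
      exact hnh ⟨t - C.p x, by rw [C.deg_sub_p, ht]; norm_num, by omega⟩
    omega
  have ht1 : ∀ x, C.h (t - C.p x) = 1 := fun x => by
    have := C.h_of_nb x t (hnb x)
    omega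
  obtain ⟨m, hm⟩ := C.exists_cl t (by omega)
  -- a point off the bad sets
  have := C.infinite
  have hfin : (⋃ x ∈ m.toFinset, ({y | ¬ C.nb y (t - C.p x)} ∪ {x})).Finite := by
    refine Set.Finite.biUnion (Finset.finite_toSet _) fun x _ => ?_
    exact (C.finite_not_nb _ (by rw [ht1]; norm_num)).union (Set.finite_singleton x)
  obtain ⟨y, hy⟩ := hfin.infinite_compl.nonempty
  have hy1 : ∀ x ∈ m, C.nb y (t - C.p x) ∧ y ≠ x := fun x hx => by
    have h1 : y ∉ {y | ¬ C.nb y (t - C.p x)} ∪ {x} := fun h =>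
      hy (Set.mem_biUnion (Multiset.mem_toFinset.mpr hx) h)
    constructor
    · by_contra hcon
      exact h1 (Or.inl hcon)
    · exact fun h => h1 (Or.inr h)
  obtain ⟨n', hn'⟩ := C.exists_cl (t - C.p y) (by rw [ht1]; norm_num)
  have hn : C.cl (y ::ₘ n') = t := by rw [C.cl_cons, hn']; abel
  have hdis : ∀ x ∈ m, x ∉ (y ::ₘ n') := by
    intro x hx hxn
    rw [Multiset.mem_cons] at hxn
    rcases hxn with rfl | hxn
    · exact (hy1 x hx).2 rfl
    · obtain ⟨n'', rfl⟩ := Multiset.exists_cons_of_mem hxn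
      have h1 := C.h_of_nb y _ (hy1 x hx).1
      rw [ht1] at h1
      have h2 : t - C.p x - C.p y = C.cl n'' := by
        rw [C.cl_cons] at hn'
        rw [sub_sub, add_comm (C.p x), ← sub_sub, ← hn']
        abel
      rw [h2] at h1
      exact C.h_cl_ne_zero n'' (by omega)
  have h1 := C.koszul (a - t) m (y ::ₘ n') hdis
  rw [hm, hn] at h1
  have e1 : a - t + t = a := by abel
  rw [e1] at h1
  omega

theorem h_dual (a : A) : (C.h (C.K - a) : ℤ) = C.h a - C.deg a - 1 + C.g := by
  have := C.rr a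
  linarith

/-- Classes of Clifford index one on a trigonal curve. -/
theorem trigonal (hg : 5 ≤ C.g) (hnh : ¬ ∃ a, C.deg a = 2 ∧ 2 ≤ C.h a) (t : A) (ht : C.deg t = 3) (ht2 : 2 ≤ C.h t)
    (a : A) (h2 : 2 ≤ C.h a) (h2' : 2 ≤ C.h (C.K - a)) (hd : C.deg a = 2 * C.h a - 1) :
    C.h a = 2 ∨ C.h a + 2 = C.g := by
  have ht3 : C.h t = 2 := by
    by_contra hcon
    have := C.infinite
    obtain ⟨x⟩ : Nonempty pts := inferInstance
    have h1 := C.h_le_succ t x
    exact hnh ⟨t - C.p x, by rw [C.deg_sub_p, ht]; norm_num, by omega⟩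
  have key : ∀ b : A, 2 ≤ C.h b → 2 ≤ C.h (C.K - b) → C.deg b = 2 * C.h b - 1 → C.h (b - t) ≤ 1 →
      C.h b = 2 ∨ C.h b + 2 = C.g := by
    intro b hb hb' hbd hbt
    have h1 := pencil C hnh t ht ht3 b
    have h3 : 2 ≤ C.h (b + t) := hb.trans (C.mono b t (by omega))
    have h4 : C.deg (b + t) = 2 * C.h b + 2 := by rw [map_add, hbd, ht]; ring
    have h5 := h_dual C (b + t)
    have h6 := h_dual C b
    by_cases h7 : 2 ≤ C.h (C.K - (b + t))
    · have h8 := cliff_one C hnh (b + t) h3 h7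
      left
      omega
    · omega
  by_cases h3 : C.h (a - t) ≤ 1
  · exact key a h2 h2' hd h3
  · by_cases h4 : C.h (C.K - a - t) ≤ 1
    · have h5 := h_dual C a
      have h6 : C.deg (C.K - a) = 2 * C.h (C.K - a) - 1 := by
        rw [map_sub, C.deg_K, hd, h5, hd]
        ring
      have h7 : C.K - (C.K - a) = a := by abel
      rcases key (C.K - a) h2' (by rw [h7]; exact h2) h6 h4 with h8 | h8
      · right; omega
      · left; omega
    · exfalso
      have h5 := pencil C hnh t ht ht3 a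
      have h6 : 2 ≤ C.h (a + t) := h2.trans (C.mono a t (by omega))
      have h7 : C.K - a - t = C.K - (a + t) := by abel
      rw [h7] at h4
      have h8 := cliff_one C hnh (a + t) h6 (by omega)
      have h9 : 2 ≤ C.h (C.K - (a - t)) := by
        have h10 : C.K - (a - t) = C.K - a + t := by abel
        rw [h10]
        exact h2'.trans (C.mono _ t (by omega))
      have h10 := cliff_one C hnh (a - t) (by omega) h9
      rw [map_add, ht, hd] at h8
      rw [map_sub, ht, hd] at h10
      omega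

end Groth.Agent.Curves.K323.LinStabCD
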