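import Mathlib.RingTheory.LocalRing.MaximalIdeal.Basic
import Mathlib.LinearAlgebra.Basis.Basic
import Mathlib.LinearAlgebra.Dimension.Free
import Mathlib.LinearAlgebra.Isomorphisms
import Mathlib.LinearAlgebra.FreeModule.Basic
import Mathlib.Algebra.BigOperators.Fin

/-!
# Quotients of free modules of rank two over local rings by a unimodular vector
-/

set_option autoImplicit false

open IsLocalRing

namespace Groth.Agent.Curves.K323.LocAlg

variable {R M : Type*} [CommRing R] [IsLocalRing R] [AddCommGroup M] [Module R M]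

/-- A vector outside `𝔪 M` has a coordinate which is a unit. -/
theorem exists_isUnit_repr {ι : Type*} [Fintype ι] (b : Module.Basis ι R M) (m : M)
    (hm : m ∉ maximalIdeal R • (⊤ : Submodule R M)) : ∃ i, IsUnit (b.repr m i) := by
  by_contra h
  push Not at h
  apply hm
  rw [← b.sum_repr m]
  refine Submodule.sum_mem _ fun i _ => Submodule.smul_mem_smul ?_ trivial
  exact (mem_maximalIdeal _).mpr (h i)

/-- If `M` is free of rank two and `m ∉ 𝔪 M`, any quotient of `M` with kernel `R m` is free of rank one. -/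
theorem nonempty_equiv_of_exact {N : Type*} [AddCommGroup N] [Module R N] (b : Module.Basis (Fin 2) R M)
    (m : M) (hm : m ∉ maximalIdeal R • (⊤ : Submodule R M)) (g : M →ₗ[R] N)
    (hg : Function.Surjective g) (hk : LinearMap.ker g = Submodule.span R {m}) : Nonempty (N ≃ₗ[R] R) := by
  obtain ⟨i, u, hu⟩ := exists_isUnit_repr b m hm
  obtain ⟨j, hj⟩ : ∃ j : Fin 2, ∀ l, l = i ∨ l = j := by
    fin_cases i
    · exact ⟨1, by decide⟩
    · exact ⟨0, by decide⟩
  by_cases hij : j = i
  · exfalso
    have h1 := hj 0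
    have h2 := hj 1
    rw [hij] at h1 h2
    exact absurd ((or_self_iff.mp h1).trans (or_self_iff.mp h2).symm) (by decide)
  let ψ : M →ₗ[R] R := b.coord j - (b.repr m j * ((u⁻¹ : Rˣ) : R)) • b.coord i
  have hψ : ∀ x, ψ x = b.repr x j - b.repr m j * ((u⁻¹ : Rˣ) : R) * b.repr x i := fun x => rfl
  have hsurj : Function.Surjective ψ := by
    intro r
    refine ⟨r • b j, ?_⟩
    rw [hψ, map_smul, b.repr_self]
    simp [Finsupp.single_apply, hij]
  have hker : LinearMap.ker ψ = Submodule.span R {m} := by
    apply le_antisymm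
    · intro x hx
      rw [LinearMap.mem_ker, hψ, sub_eq_zero] at hx
      rw [Submodule.mem_span_singleton]
      refine ⟨b.repr x i * ((u⁻¹ : Rˣ) : R), ?_⟩
      apply b.repr.injective
      ext l
      rw [map_smul, Finsupp.smul_apply, smul_eq_mul]
      rcases hj l with rfl | rfl
      · rw [← hu, Units.inv_mul_cancel_right]
      · rw [hx]; ring
    · rw [Submodule.span_singleton_le_iff_mem, LinearMap.mem_ker, hψ, ← hu]
      rw [Units.inv_mul_cancel_right, sub_self]
  refine ⟨?_⟩
  let e1 := LinearMap.quotKerEquivOfSurjective g hg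
  let e2 := LinearMap.quotKerEquivOfSurjective ψ hsurj
  exact e1.symm.trans ((Submodule.quotEquivOfEq _ _ (hk.trans hker.symm)).trans e2)

end Groth.Agent.Curves.K323.LocAlg
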