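import Groth.Agent.Mero.K149.Depth
import Groth.Agent.Mero.K149.ZeroSch
import Groth.Agent.Divis.CartierStalk
import Groth.Agent.VarietyA.EulerLES
import Groth.Agent.CurvesB.HZero
import Groth.Agent.Ega1.GlobGenPt
import Groth.Agent.VarietyB.GlobGen
import Groth.Agent.VarietyA.CurveFin
import Groth.Agent.CurvesC.Gen
import Groth.Agent.CurvesA.DimOne
import Groth.Agent.Models.H55.PtDeg
import Groth.Agent.Dix.VertGeom
import Groth.Agent.VarietyA.SmoothReg
import Groth.Agent.CalgA.RegBasic

/-!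
# Divisors of meromorphic functions: the ideal of a point, sections of `O_X(D)` and of `O_X(D - P)`

* `exists_isDivOfIdeal`: an effective Cartier ideal has a divisor.
* `exists_chart`: the value at `x` of a global section of `O_X(D)`.
* `inclHom`: `O_X(E) ⟶ O_X(D)` when `E ≤ D`.
-/

set_option autoImplicit false
universe u

open CategoryTheory CategoryTheory.Limits AlgebraicGeometry Opposite TopologicalSpace
open Groth.Agent.Fdesc.LocGen

namespace Groth.Agent.Curves.K323.MeroPt

open Groth.Agent Mero K149.Basic K149.Affine K149.Div K149.RegMero K149.ZeroSch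
open Groth.Agent.Divis.CartierBasic

variable {X : Scheme.{u}}

/-- The germ of the divisor of a regular function. -/
noncomputable def cls {U : X.Opens} {f : Γ(X, U)} (hf : f ∈ regSub X U) (y : U) : Germ X y.1 :=
  QuotientGroup.mk (IsLocalization.map_units (KStalk X y.1) (regGerm y ⟨f, hf⟩)).unit

theorem cls_eq {U V : X.Opens} {f : Γ(X, U)} (hf : f ∈ regSub X U) {g : Γ(X, V)} (hg : g ∈ regSub X V)
    (y : X) (hU : y ∈ U) (hV : y ∈ V)
    (h : Ideal.span {og ⟨y, hU⟩ f} = Ideal.span {og ⟨y, hV⟩ g}) : cls hf ⟨y, hU⟩ = cls hg ⟨y, hV⟩ := by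
  have hnz : og ⟨y, hU⟩ f ∈ nonZeroDivisors (X.presheaf.stalk y) := hf ⟨y, hU⟩
  obtain ⟨a, ha⟩ := Ideal.mem_span_singleton.mp (h.ge (Ideal.mem_span_singleton_self _))
  obtain ⟨b, hb⟩ := Ideal.mem_span_singleton.mp (h.le (Ideal.mem_span_singleton_self _))
  have hab : a * b = 1 := by
    have h1 : og ⟨y, hU⟩ f * (a * b - 1) = 0 := by
      rw [mul_sub, mul_one, ← mul_assoc, ← ha, ← hb, sub_self]
    have h2 := (mem_nonZeroDivisors_iff.mp hnz).1 _ h1
    exact sub_eq_zero.mp h2
  refine (mk_eq_mk_iff _ _).mpr ⟨⟨a, b, hab, by rw [mul_comm]; exact hab⟩, ?_⟩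
  change algebraMap _ (KStalk X y) (og ⟨y, hV⟩ g) = algebraMap _ _ a * algebraMap _ _ (og ⟨y, hU⟩ f)
  rw [ha, map_mul, mul_comm]

/-- An effective Cartier ideal has a divisor. -/
theorem exists_isDivOfIdeal {I : X.IdealSheafData} (hI : BlowUp.IsEffCartierIdeal I) :
    ∃ P : Divisor X, IsDivOfIdeal P I := by
  choose U hU f hf hIf using hI
  have hf' : ∀ x, f x ∈ regSub X (U x).1 := fun x => by
    rw [regSub_eq (U x).2]
    exact hf x
  have hst : ∀ (x y : X) (hy : y ∈ (U x).1), stalkIdeal I y = Ideal.span {og ⟨y, hy⟩ (f x)} := fun x y hy => by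
    rw [stalkIdeal_eq I (U x) hy, hIf, Ideal.map_span, Set.image_singleton]
    rfl
  have key : ∀ (x y : X) (hy : y ∈ (U x).1), cls (hf' y) ⟨y, hU y⟩ = cls (hf' x) ⟨y, hy⟩ := fun x y hy =>
    cls_eq (hf' y) (hf' x) y (hU y) hy (by rw [← hst, ← hst])
  refine ⟨⟨fun x => cls (hf' x) ⟨x, hU x⟩, fun x => ⟨(U x).1, hU x, tu (hf' x), fun y => ?_⟩⟩, fun x =>
    ⟨U x, hU x, f x, hf' x, hIf x, fun y => key x y.1 y.2⟩⟩
  rw [germOf_tu]
  exact key x y.1 y.2

/-- The value at a point of a global section of `O_X(D)`. -/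
noncomputable def val {D : Divisor X} (t : Γ(divMod D, ⊤)) (x : X) : KStalk X x := t.1 ⟨x, trivial⟩

theorem sec_ofSec {D : Divisor X} (t : Γ(divMod D, ⊤)) :
    (sec (CurvesC.Gen.ofSec t) ⊤ : Γ(divMod D, ⊤)) = t := CurvesC.Gen.sec_ofSec_top t

theorem ofSec_sec {D : Divisor X} (s : Coh.structureModule X ⟶ divMod D) :
    CurvesC.Gen.ofSec (sec s ⊤) = s := CurvesC.Gen.ofSec_sec s

/-- The value at a point of a global section of `O_X(D)`. -/
theorem exists_chart (D : Divisor X) (s : Coh.structureModule X ⟶ divMod D) (x : X) :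
    ∃ (g : (KStalk X x)ˣ) (a : X.presheaf.stalk x), D.1 x = QuotientGroup.mk g ∧
      val (sec s ⊤) x * g = algebraMap _ _ a ∧
      (x ∈ CohB1.genLocus (divMod D) s ↔ IsUnit a) := by
  obtain ⟨U, hx, f, hf⟩ := exists_local D x
  obtain ⟨a, ha⟩ := (isGen_gen hf).exists_eq (sec s U)
  refine ⟨uval f ⟨x, hx⟩, og ⟨x, hx⟩ a, hf ⟨x, hx⟩, ?_, ?_⟩
  · have h1 : val (sec s ⊤) x = (sec s U : Γ(divMod D, U)).1 ⟨x, hx⟩ := by
      rw [← res_sec s (le_top : U ≤ ⊤)]
      rfl
    have h2 : (sec s U : Γ(divMod D, U)).1 ⟨x, hx⟩ =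
        algebraMap (X.presheaf.stalk x) (KStalk X x) (og ⟨x, hx⟩ a) * (uval f⁻¹ ⟨x, hx⟩ : KStalk X x) := by
      rw [ha, ← divModι_app, divModι_smul, divModι_gen, kmod_mul_apply, toK_apply']
      rfl
    rw [h1, h2, mul_assoc, mul_comm (uval f⁻¹ ⟨x, hx⟩ : KStalk X x), uval_mul_inv, mul_one]
  · have h1 := genLocus_inf_eq s (isGen_gen hf) ha
    have h2 : x ∈ CohB1.genLocus (divMod D) s ↔ x ∈ X.basicOpen a := by
      rw [← h1]
      exact ⟨fun h => ⟨h, hx⟩, fun h => h.1⟩
    rw [h2, Scheme.mem_basicOpen _ _ _ hx]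
    rfl

/-- The inclusion `O_X(E) ⟶ O_X(D)` for `E ≤ D`. -/
noncomputable def inclHom {E D : Divisor X} (h : ∀ (x : X) (t : KStalk X x), DivCond E x t → DivCond D x t) :
    divMod E ⟶ divMod D :=
  mkHom (fun U =>
    { toFun := fun t => mkSec D ((divModι E).app U t) (fun x => h x.1 _ (t.2.2 x))
      map_zero' := rfl
      map_add' := fun _ _ => rfl })
    (fun _ _ _ => rfl) (fun _ _ _ _ => rfl)

theorem inclHom_app {E D : Divisor X} (h : ∀ (x : X) (t : KStalk X x), DivCond E x t → DivCond D x t)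
    {U : X.Opens} (t : Γ(divMod E, U)) (x : U) : ((inclHom h).app U t).1 x = t.1 x := rfl

theorem divCond_one_of_isEffectiveAt {P : Divisor X} {x : X} (hP : IsEffectiveAt P x) : DivCond P x 1 := by
  obtain ⟨a, ha⟩ := hP
  rw [divCond_iff P ha, one_mul]
  exact ⟨a.1, rfl⟩

theorem divCond_of_mul_inv {D P : Divisor X} {x : X} (hP : IsEffectiveAt P x) (t : KStalk X x)
    (h : DivCond (D * P⁻¹) x t) : DivCond D x t := by
  have h1 := divCond_mul h (divCond_one_of_isEffectiveAt hP)
  rwa [inv_mul_cancel_right, mul_one] at h1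

theorem divCond_congr {D E : Divisor X} {x : X} (h : D.1 x = E.1 x) (t : KStalk X x) :
    DivCond D x t ↔ DivCond E x t := by
  unfold DivCond
  rw [h]

theorem isClosed_of_one_le (h : topologicalKrullDim X ≤ 1) (x : X)
    (hx : 1 ≤ ringKrullDim (X.presheaf.stalk x)) : IsClosed ({x} : Set X) := by
  by_contra hcl
  have h0 : Ring.KrullDimLE 0 (X.presheaf.stalk x) := by
    rw [Ring.krullDimLE_zero_iff]
    intro I hI
    let q : PrimeSpectrum (X.presheaf.stalk x) := ⟨I, hI⟩
    let z : X := X.fromSpecStalk x q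
    have hz : z ⤳ x := by
      have h1 : z ∈ Set.range (X.fromSpecStalk x) := ⟨q, rfl⟩
      rwa [Scheme.range_fromSpecStalk] at h1
    by_cases hzx : z = x
    · have h2 : q = IsLocalRing.closedPoint (X.presheaf.stalk x) :=
        (X.fromSpecStalk x).isEmbedding.injective (hzx.trans (Scheme.fromSpecStalk_closedPoint).symm)
      have h3 : I = IsLocalRing.maximalIdeal (X.presheaf.stalk x) := congrArg PrimeSpectrum.asIdeal h2
      rw [h3]
      infer_instance
    · exfalso
      apply hcl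
      let Z : TopologicalSpace.IrreducibleCloseds X :=
        ⟨closure {x}, isIrreducible_singleton.closure, isClosed_closure⟩
      let W : TopologicalSpace.IrreducibleCloseds X :=
        ⟨closure {z}, isIrreducible_singleton.closure, isClosed_closure⟩
      have hle : Z ≤ W := closure_minimal (Set.singleton_subset_iff.mpr hz.mem_closure) isClosed_closure
      have hlt : Z < W := by
        refine lt_of_le_of_ne hle fun h => hzx ?_
        have h1 : closure {x} = closure {z} :=
          congrArg (fun T : TopologicalSpace.IrreducibleCloseds X => (T : Set X)) h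
        exact (inseparable_iff_closure_eq.2 h1).eq.symm
      have h2 := CurvesA.DimOne.subsingleton_of_lt h hlt
      have h3 : closure {x} = ({x} : Set X) :=
        h2.eq_singleton_of_mem (subset_closure (Set.mem_singleton x))
      rw [← h3]
      exact isClosed_closure
  have h1 : ringKrullDim (X.presheaf.stalk x) ≤ 0 := Ring.krullDimLE_iff.mp h0
  have h2 := hx.trans h1
  exact absurd h2 (by decide)

/-- Not generating at `x` means lying in `O_X(D - P)` at `x`, for a divisor `P` of the maximal ideal. -/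
theorem divCond_iff_notMem (D P : Divisor X) (s : Coh.structureModule X ⟶ divMod D) (x : X)
    (p : regStalk X x) (hp : P.1 x = QuotientGroup.mk (IsLocalization.map_units (KStalk X x) p).unit)
    (hm : IsLocalRing.maximalIdeal (X.presheaf.stalk x) = Ideal.span {(p : X.presheaf.stalk x)}) :
    DivCond (D * P⁻¹) x (val (sec s ⊤) x) ↔ x ∉ CohB1.genLocus (divMod D) s := by
  obtain ⟨g, a, hg, hga, hgen⟩ := exists_chart D s x
  set q : (KStalk X x)ˣ := (IsLocalization.map_units (KStalk X x) p).unit with hq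
  have hq' : (q : KStalk X x) = algebraMap _ _ (p : X.presheaf.stalk x) := rfl
  have h1 : (D * P⁻¹).1 x = QuotientGroup.mk (g * q⁻¹) := by
    change D.1 x * (P.1 x)⁻¹ = _
    rw [hg, hp, QuotientGroup.mk_mul, QuotientGroup.mk_inv]
  rw [divCond_iff (D * P⁻¹) h1, Units.val_mul, ← mul_assoc, hga, hgen]
  have h2 : ¬ IsUnit a ↔ a ∈ IsLocalRing.maximalIdeal (X.presheaf.stalk x) := Iff.rfl
  rw [h2, hm, Ideal.mem_span_singleton]
  constructor
  · rintro ⟨r, hr⟩
    refine ⟨r, algebraMap_KStalk_injective (X := X) x ?_⟩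
    rw [map_mul, hr, ← hq', mul_left_comm, Units.mul_inv, mul_one]
  · rintro ⟨r, hr⟩
    refine ⟨r, ?_⟩
    rw [hr, map_mul, ← hq', mul_comm (q : KStalk X x), mul_assoc, Units.mul_inv, mul_one]

section finrank

variable (k : Type u) [Field k] [X.Over (Spec (CommRingCat.of k))] [IsProper (X ↘ (Spec (CommRingCat.of k)))]

theorem finrank_lt_iff (D P : Divisor X) (x : X) (hPe : IsEffective P) (hP1 : ∀ y, y ≠ x → P.1 y = 1)
    (hgen : ∀ s : Coh.structureModule X ⟶ divMod D,
      DivCond (D * P⁻¹) x (val (sec s ⊤) x) ↔ x ∉ CohB1.genLocus (divMod D) s) :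
    Module.finrank k (Coh.HH X (divMod (D * P⁻¹)) 0) < Module.finrank k (Coh.HH X (divMod D) 0) ↔
      ∃ s : Coh.structureModule X ⟶ divMod D, x ∈ CohB1.genLocus (divMod D) s := by
  have hle : ∀ (y : X) (t : KStalk X y), DivCond (D * P⁻¹) y t → DivCond D y t :=
    fun y t h => divCond_of_mul_inv (hPe y) t h
  have hne : ∀ (y : X), y ≠ x → ∀ t : KStalk X y, DivCond (D * P⁻¹) y t ↔ DivCond D y t := fun y hy t =>
    divCond_congr (by
      change D.1 y * (P.1 y)⁻¹ = D.1 y
      rw [hP1 y hy, inv_one]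
      exact mul_one (D.1 y)) t
  let φ := inclHom hle
  let Λ : Coh.HH X (divMod (D * P⁻¹)) 0 →ₗ[k] Coh.HH X (divMod D) 0 := VarietyA.EulerLES.mapA k φ 0
  have hΛ : ∀ z, CurvesB.HZero.equivAdd (divMod D) (Λ z) =
      φ.app ⊤ (CurvesB.HZero.equivAdd (divMod (D * P⁻¹)) z) := fun z =>
    CurvesB.HZero.equivAdd_map φ z
  have hinj : Function.Injective Λ := by
    intro z z' hz
    apply (CurvesB.HZero.equivAdd (divMod (D * P⁻¹))).injective
    have h1 := congrArg (CurvesB.HZero.equivAdd (divMod D)) hz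
    rw [hΛ, hΛ] at h1
    refine Subtype.ext (funext fun y => ?_)
    exact congrFun (congrArg Subtype.val h1) y
  have hfin : Module.Finite k (Coh.HH X (divMod D) 0) :=
    VarietyA.CurveFin.finite_HH k X (isInvertible_divMod D) 0
  have hfin' : Module.Finite k (Coh.HH X (divMod (D * P⁻¹)) 0) :=
    VarietyA.CurveFin.finite_HH k X (isInvertible_divMod _) 0
  have key : ∀ z : Coh.HH X (divMod D) 0, z ∈ LinearMap.range Λ ↔
      x ∉ CohB1.genLocus (divMod D) (CurvesC.Gen.ofSec (CurvesB.HZero.equivAdd (divMod D) z)) := by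
    intro z
    rw [← hgen, sec_ofSec]
    constructor
    · rintro ⟨w, rfl⟩
      rw [hΛ]
      exact (CurvesB.HZero.equivAdd (divMod (D * P⁻¹)) w).2.2 ⟨x, trivial⟩
    · intro h
      set t : Γ(divMod D, ⊤) := CurvesB.HZero.equivAdd (divMod D) z with ht
      let t' : Γ(divMod (D * P⁻¹), ⊤) := mkSec (D * P⁻¹) ((divModι D).app ⊤ t) (fun y => by
        by_cases hy : y.1 = x
        · obtain ⟨y, hy'⟩ := y
          obtain rfl : y = x := hy
          exact h
        · exact (hne y.1 hy _).mpr (t.2.2 y))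
      refine ⟨(CurvesB.HZero.equivAdd (divMod (D * P⁻¹))).symm t', ?_⟩
      apply (CurvesB.HZero.equivAdd (divMod D)).injective
      rw [hΛ, AddEquiv.apply_symm_apply, ← ht]
      rfl
  constructor
  · intro hlt
    by_contra hcon
    push Not at hcon
    have hsurj : Function.Surjective Λ := fun z => (key z).mpr (hcon _)
    exact absurd (LinearEquiv.ofBijective Λ ⟨hinj, hsurj⟩).finrank_eq hlt.ne
  · rintro ⟨s, hs⟩
    refine lt_of_le_of_ne (LinearMap.finrank_le_finrank_of_injective hinj) fun heq => ?_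
    have hsurj : Function.Surjective Λ := (LinearMap.injective_iff_surjective_of_finrank_eq_finrank heq).mp hinj
    have h1 := (key ((CurvesB.HZero.equivAdd (divMod D)).symm (sec s ⊤))).mp (hsurj _)
    rw [AddEquiv.apply_symm_apply, ofSec_sec] at h1
    exact h1 hs

end finrank

/-- `O_X(D)` is generated by its canonical section outside the support of `D`. -/
theorem exists_gen_of_notMem_supp (D : Divisor X) (hD : IsEffective D) (x : X) (hx : x ∉ supp D) :
    ∃ s : Coh.structureModule X ⟶ divMod D, x ∈ CohB1.genLocus (divMod D) s := by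
  let t : Γ(divMod D, ⊤) := mkSec D (1 : Γ(kmod X, ⊤)) (fun y => divCond_one_of_isEffectiveAt (hD y.1))
  refine ⟨CurvesC.Gen.ofSec t, ?_⟩
  obtain ⟨g, a, hg, hga, hgen⟩ := exists_chart D (CurvesC.Gen.ofSec t) x
  rw [hgen]
  rw [sec_ofSec] at hga
  have h1 : D.1 x = 1 := by
    by_contra h
    exact hx h
  obtain ⟨u, hu⟩ := (mk_eq_one_iff g).mp (hg.symm.trans h1)
  have h2 : val t x = 1 := rfl
  rw [h2, one_mul, hu] at hga
  rw [← algebraMap_KStalk_injective (X := X) x hga]
  exact u.isUnit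

section point

variable (x : X) (hx : IsClosed ({x} : Set X))

include hx

theorem mem_support_iff (y : X) : y ∈ (X.fromSpecResidueField x).ker.support ↔ y = x := by
  have := isClosed_singleton_iff_isClosedImmersion.mp hx
  rw [Dix.VertGeom.mem_support_ker_iff, Scheme.range_fromSpecResidueField]
  exact Set.mem_singleton_iff

theorem stalkIdeal_self :
    stalkIdeal (X.fromSpecResidueField x).ker x = IsLocalRing.maximalIdeal (X.presheaf.stalk x) := by
  have := isClosed_singleton_iff_isClosedImmersion.mp hx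
  exact Models.H55.PtDeg.stalkIdeal_ker_fromSpecResidueField x

theorem isEff_point [IsLocallyNoetherian X] [IsRegularLocalRing (X.presheaf.stalk x)]
    (hd : ringKrullDim (X.presheaf.stalk x) = 1) : BlowUp.IsEffCartierIdeal (X.fromSpecResidueField x).ker := by
  have hdom : IsDomain (X.presheaf.stalk x) := CalgA.RegBasic.isDomain _
  have hdvr := VarietyA.SmoothReg.isDiscreteValuationRing_of_isRegularLocalRing _ hd
  obtain ⟨ϖ, hϖ⟩ := IsDiscreteValuationRing.exists_irreducible (X.presheaf.stalk x)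
  refine isEffCartierIdeal_of_stalkIdeal _ fun y hy => ?_
  obtain rfl := (mem_support_iff x hx y).mp hy
  exact ⟨ϖ, mem_nonZeroDivisors_of_ne_zero hϖ.ne_zero, by rw [stalkIdeal_self y hx, hϖ.maximalIdeal_eq]⟩

variable (k : Type u) [Field k] [X.Over (Spec (CommRingCat.of k))] [IsProper (X ↘ (Spec (CommRingCat.of k)))]

/-- The dimension of `H⁰(O_X(D))` drops at a closed point exactly when some section generates there. -/
theorem finrank_lt_iff_point (D P : Divisor X) (hP : IsDivOfIdeal P (X.fromSpecResidueField x).ker) :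
    Module.finrank k (Coh.HH X (divMod (D * P⁻¹)) 0) < Module.finrank k (Coh.HH X (divMod D) 0) ↔
      ∃ s : Coh.structureModule X ⟶ divMod D, x ∈ CohB1.genLocus (divMod D) s := by
  have hst : ∀ (U : X.affineOpens) (f : Γ(X, U.1)) (_ : (X.fromSpecResidueField x).ker.ideal U = Ideal.span {f})
      (y : U.1), stalkIdeal (X.fromSpecResidueField x).ker y.1 = Ideal.span {og y f} := fun U f hf y => by
    rw [stalkIdeal_eq _ U y.2, hf, Ideal.map_span, Set.image_singleton]
    rfl
  refine finrank_lt_iff k D P x ?_ ?_ ?_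
  · intro y
    obtain ⟨U, hy, f, hf, hI, hPf⟩ := hP y
    exact ⟨regGerm ⟨y, hy⟩ ⟨f, hf⟩, hPf ⟨y, hy⟩⟩
  · intro y hyx
    obtain ⟨U, hy, f, hf, hI, hPf⟩ := hP y
    rw [hPf ⟨y, hy⟩, mk_eq_one_iff]
    have h1 : y ∉ (X.fromSpecResidueField x).ker.support := fun h => hyx ((mem_support_iff x hx y).mp h)
    rw [notMem_support_iff_stalkIdeal_eq_top, hst U f hI ⟨y, hy⟩, Ideal.span_singleton_eq_top] at h1
    exact ⟨h1.unit, rfl⟩
  · intro s
    obtain ⟨U, hy, f, hf, hI, hPf⟩ := hP x
    refine divCond_iff_notMem D P s x (regGerm ⟨x, hy⟩ ⟨f, hf⟩) (hPf ⟨x, hy⟩) ?_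
    rw [← stalkIdeal_self x hx, hst U f hI ⟨x, hy⟩]
    rfl

end point

end Groth.Agent.Curves.K323.MeroPt
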