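import Groth.Agent.CurvesB.HZero
import Groth.Agent.S0843
import Groth.Prelude.Def_Omega4
import Groth.Prelude.Def_LinSer
import Groth.Prelude.Def_Twist2
import Mathlib.RingTheory.MvPolynomial.Homogeneous
import Mathlib.Algebra.MvPolynomial.Basic

/-!
# A nondegenerate map to projective `r`-space has at least `r + 1` sections of the pullback of `O(1)`
-/

set_option autoImplicit false
universe u
open CategoryTheory CategoryTheory.Limits AlgebraicGeometry Opposite TopologicalSpace
open Groth.Agent.CurvesB.HZero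

namespace Groth.Agent.Curves.K323.Nondeg

/-- pullback of global sections, as an additive map. -/
noncomputable def pullTop {X Y : Scheme.{u}} (i : X ⟶ Y) (M : Y.Modules) :
    Γ(M, ⊤) →+ Γ((Scheme.Modules.pullback i).obj M, ⊤) :=
  (OmegaSh.pullSect i M ⊤).hom

theorem pullTop_smul {X Y : Scheme.{u}} (i : X ⟶ Y) (M : Y.Modules) (r : Γ(Y, ⊤)) (m : Γ(M, ⊤)) :
    pullTop i M (r • m) = (i.appTop r) • pullTop i M m :=
  OmegaSh.pullSect_smul i M ⊤ r m

/-- the additive map `H^0(Y, M) → H^0(X, i^* M)`, linear over the base ring. -/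
noncomputable def pullH0 (k : Type u) [CommRing k] {X Y : Scheme.{u}} [X.Over (Spec (CommRingCat.of k))]
    [Y.Over (Spec (CommRingCat.of k))] (i : X ⟶ Y)
    (hi : i ≫ (Y ↘ Spec (CommRingCat.of k)) = (X ↘ Spec (CommRingCat.of k))) (M : Y.Modules) :
    Coh.HH Y M 0 →ₗ[k] Coh.HH X ((Scheme.Modules.pullback i).obj M) 0 where
  toFun x := (equivAdd ((Scheme.Modules.pullback i).obj M)).symm (pullTop i M (equivAdd M x))
  map_add' x y := by
    rw [map_add, map_add, map_add]
  map_smul' t x := by
    rw [RingHom.id_apply]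
    apply (equivAdd ((Scheme.Modules.pullback i).obj M)).injective
    rw [AddEquiv.apply_symm_apply, equivAdd_smul_over, equivAdd_smul_over,
      AddEquiv.apply_symm_apply, pullTop_smul]
    congr 1
    have h1 : (X ↘ Spec (CommRingCat.of k)).appTop = (Y ↘ Spec (CommRingCat.of k)).appTop ≫ i.appTop := by
      rw [← hi, Scheme.Hom.comp_appTop]
    change i.appTop (((Y ↘ Spec (CommRingCat.of k)).appTop).hom _) = ((X ↘ Spec (CommRingCat.of k)).appTop).hom _
    rw [h1]
    rfl

theorem pullH0_injective (k : Type u) [CommRing k] {X Y : Scheme.{u}} [X.Over (Spec (CommRingCat.of k))]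
    [Y.Over (Spec (CommRingCat.of k))] (i : X ⟶ Y)
    (hi : i ≫ (Y ↘ Spec (CommRingCat.of k)) = (X ↘ Spec (CommRingCat.of k))) (M : Y.Modules)
    (h : ∀ s : LinSer.Sect Y M, s ≠ 0 → OmegaSh.pullSect i M ⊤ s ≠ 0) :
    Function.Injective (pullH0 k i hi M) := by
  rw [injective_iff_map_eq_zero]
  intro x hx
  by_contra hne
  have h1 : equivAdd M x ≠ 0 := fun h0 => hne ((equivAdd M).injective (by rw [h0, map_zero]))
  have h2 : pullTop i M (equivAdd M x) ≠ 0 := h _ h1
  apply h2
  have h3 : (equivAdd ((Scheme.Modules.pullback i).obj M)).symm (pullTop i M (equivAdd M x)) = 0 := hx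
  exact (EmbeddingLike.map_eq_zero_iff).mp h3

theorem linearIndependent_X (k : Type u) [CommRing k] [Nontrivial k] (r : ℕ) :
    LinearIndependent k (fun i : Fin (r + 1) =>
      (⟨MvPolynomial.X i, MvPolynomial.isHomogeneous_X k i⟩ :
        MvPolynomial.homogeneousSubmodule (Fin (r + 1)) k 1)) := by
  apply LinearIndependent.of_comp (Submodule.subtype _)
  exact MvPolynomial.linearIndependent_X (Fin (r + 1)) k

/-- A nondegenerate map to `P^r` gives at least `r + 1` independent sections of `i^* O(1)`. -/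
theorem succ_le_finrank (k : Type u) [Field k] (r : ℕ)
    (X : Scheme.{u}) [X.Over (Spec (CommRingCat.of k))]
    (i : X ⟶ CohB1.ProjSpace r k)
    (hi : i ≫ CohB1.ProjSpace.toSpec r k = (X ↘ (Spec (CommRingCat.of k))))
    (hplane : ∀ s : LinSer.Sect (CohB1.ProjSpace r k) (Twist.twistProjSpace r k 1), s ≠ 0 →
      OmegaSh.pullSect i (Twist.twistProjSpace r k 1) ⊤ s ≠ 0)
    [Module.Finite k (Coh.HH X ((Scheme.Modules.pullback i).obj (Twist.twistProjSpace r k 1)) 0)] :
    r + 1 ≤ Module.finrank k (Coh.HH X ((Scheme.Modules.pullback i).obj (Twist.twistProjSpace r k 1)) 0) := by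
  obtain ⟨e⟩ := Groth.Agent.S0843.result k r 1
  have h1 := pullH0_injective k i hi (Twist.twistProjSpace r k 1) hplane
  have h2 := (linearIndependent_X k r).map' (pullH0 k i hi (Twist.twistProjSpace r k 1) ∘ₗ e.symm.toLinearMap)
    (LinearMap.ker_eq_bot.mpr (h1.comp e.symm.injective))
  have h3 := h2.fintype_card_le_finrank
  rwa [Fintype.card_fin] at h3

end Groth.Agent.Curves.K323.Nondeg
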