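import Groth.Agent.Curves.K323.NormBC
import Groth.Agent.Ega1.ReducedSub
import Groth.Agent.S1585
import Groth.Agent.S2351
import Groth.Prelude.Def_CurvBase

/-!
# The smooth model is compatible with field extensions
-/

set_option autoImplicit false
universe u
open CategoryTheory CategoryTheory.Limits AlgebraicGeometry TopologicalSpace Opposite

namespace Groth.Agent.Curves.K323.NormBCMain

open NormBC

variable (K : Type u) [Field K] {X Y : Scheme.{u}} (f : X ⟶ Spec (CommRingCat.of K)) (ν : Y ⟶ X)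
  (Ω : Type u) [Field Ω] [Algebra K Ω]

/-- The base change of `ν`. -/
noncomputable abbrev bcm : pullback (ν ≫ f) (Spec.map (CommRingCat.ofHom (algebraMap K Ω))) ⟶
    pullback f (Spec.map (CommRingCat.ofHom (algebraMap K Ω))) :=
  pullback.map (ν ≫ f) (Spec.map (CommRingCat.ofHom (algebraMap K Ω))) f
    (Spec.map (CommRingCat.ofHom (algebraMap K Ω))) ν (𝟙 _) (𝟙 _)
    (Category.comp_id _) ((Category.comp_id _).trans (Category.id_comp _).symm)

theorem isPullback_bcm : IsPullback (pullback.fst (ν ≫ f) (Spec.map (CommRingCat.ofHom (algebraMap K Ω))))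
    (bcm K f ν Ω) ν (pullback.fst f (Spec.map (CommRingCat.ofHom (algebraMap K Ω)))) := by
  have h1 := (IsPullback.of_hasPullback f (Spec.map (CommRingCat.ofHom (algebraMap K Ω)))).flip
  have h2 := (IsPullback.of_hasPullback (ν ≫ f) (Spec.map (CommRingCat.ofHom (algebraMap K Ω)))).flip
  refine (IsPullback.of_right ?_ ?_ h1).flip
  · have : bcm K f ν Ω ≫ pullback.snd f (Spec.map (CommRingCat.ofHom (algebraMap K Ω))) =
      pullback.snd (ν ≫ f) _ := (pullback.lift_snd _ _ _).trans (Category.comp_id _)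
    rw [this]
    exact h2
  · exact pullback.lift_fst _ _ _

theorem main [IsIntegral X] [IsIntegral Y] [GeometricallyIrreducible f] [IsIntegralHom ν]
    (V : X.Opens) (hV : (V : Set X).Nonempty) [IsIso (ν ∣_ V)] (hsm : Smooth (ν ≫ f))
    [IsIntegral ((pullback f (Spec.map (CommRingCat.ofHom (algebraMap K Ω)))).nilradical).subscheme]
    [QuasiCompact ((((pullback f (Spec.map (CommRingCat.ofHom (algebraMap K Ω)))).nilradical).subscheme).fromSpecStalk (genericPoint ((pullback f (Spec.map (CommRingCat.ofHom (algebraMap K Ω)))).nilradical).subscheme))]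
    [QuasiSeparated ((((pullback f (Spec.map (CommRingCat.ofHom (algebraMap K Ω)))).nilradical).subscheme).fromSpecStalk (genericPoint ((pullback f (Spec.map (CommRingCat.ofHom (algebraMap K Ω)))).nilradical).subscheme))] :
    ∃ e : pullback (ν ≫ f) (Spec.map (CommRingCat.ofHom (algebraMap K Ω))) ≅
        Curv2.normalization ((pullback f (Spec.map (CommRingCat.ofHom (algebraMap K Ω)))).nilradical).subscheme,
      e.hom ≫ Curv2.normalizationι ((pullback f (Spec.map (CommRingCat.ofHom (algebraMap K Ω)))).nilradical).subscheme ≫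
        ((pullback f (Spec.map (CommRingCat.ofHom (algebraMap K Ω)))).nilradical).subschemeι = bcm K f ν Ω := by
  have hS : Subsingleton (Spec (CommRingCat.of K)) := inferInstanceAs (Subsingleton (PrimeSpectrum K))
  have hI : IsIntegral (Spec (CommRingCat.of K)) := inferInstance
  have hne : Surjective (Spec.map (CommRingCat.ofHom (algebraMap K Ω))) :=
    ⟨fun y => ⟨IsLocalRing.closedPoint Ω, Subsingleton.elim _ _⟩⟩
  let XΩ := pullback f (Spec.map (CommRingCat.ofHom (algebraMap K Ω)))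
  let p := bcm K f ν Ω
  let q : XΩ ⟶ X := pullback.fst f (Spec.map (CommRingCat.ofHom (algebraMap K Ω)))
  let r := pullback.fst (ν ≫ f) (Spec.map (CommRingCat.ofHom (algebraMap K Ω)))
  have hp := isPullback_bcm K f ν Ω
  have hpi : IsIso (p ∣_ (q ⁻¹ᵁ V)) := isIso_restrict hp V
  have hsm' : Smooth (pullback.snd (ν ≫ f) (Spec.map (CommRingCat.ofHom (algebraMap K Ω)))) := inferInstance
  have hnorm := isNormalScheme_of_smooth (pullback.snd (ν ≫ f) (Spec.map (CommRingCat.ofHom (algebraMap K Ω))))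
  have hred := isReduced_of_smooth (pullback.snd (ν ≫ f) (Spec.map (CommRingCat.ofHom (algebraMap K Ω))))
  have hirr : IrreducibleSpace XΩ := inferInstance
  have hWne : ((q ⁻¹ᵁ V : XΩ.Opens) : Set XΩ).Nonempty := by
    obtain ⟨x, hx⟩ := hV
    obtain ⟨y, rfl⟩ := q.surjective x
    exact ⟨y, hx⟩
  have hνV : ((ν ⁻¹ᵁ V : Y.Opens) : Set Y).Nonempty := by
    obtain ⟨x, hx⟩ := hV
    obtain ⟨y, hy⟩ := (ν ∣_ V).homeomorph.surjective ⟨x, hx⟩
    exact ⟨y.1, y.2⟩
  have hd : Dense ((p ⁻¹ᵁ (q ⁻¹ᵁ V) : (pullback (ν ≫ f) (Spec.map (CommRingCat.ofHom (algebraMap K Ω)))).Opens) :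
      Set ↥(pullback (ν ≫ f) (Spec.map (CommRingCat.ofHom (algebraMap K Ω))))) := by
    have h1 : p ⁻¹ᵁ (q ⁻¹ᵁ V) = r ⁻¹ᵁ (ν ⁻¹ᵁ V) := by
      rw [← Scheme.Hom.comp_preimage, ← Scheme.Hom.comp_preimage, hp.w]
    rw [h1]
    exact ((ν ⁻¹ᵁ V).isOpen.dense hνV).preimage r.isOpenMap
  have hirr' := irreducibleSpace_of_restrict p (q ⁻¹ᵁ V) hWne hd
  have hint : IsIntegral (pullback (ν ≫ f) (Spec.map (CommRingCat.ofHom (algebraMap K Ω)))) :=
    isIntegral_of_irreducibleSpace_of_isReduced _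
  have hpint : IsIntegralHom p := MorphismProperty.of_isPullback hp inferInstance
  obtain ⟨g, hg, hgp⟩ := exists_isPullback_nilradical p
  have hgi : IsIntegralHom g := by
    have : IsIntegralHom (g ≫ XΩ.nilradical.subschemeι) := by rw [hg]; exact hpint
    exact IsIntegralHom.of_comp g XΩ.nilradical.subschemeι
  have hgV : IsIso (g ∣_ (XΩ.nilradical.subschemeι ⁻¹ᵁ (q ⁻¹ᵁ V))) := isIso_restrict hgp.flip (q ⁻¹ᵁ V)
  have hZne : ((XΩ.nilradical.subschemeι ⁻¹ᵁ (q ⁻¹ᵁ V) : XΩ.nilradical.subscheme.Opens) :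
      Set XΩ.nilradical.subscheme).Nonempty := by
    obtain ⟨x, hx⟩ := hWne
    have hs : x ∈ Set.range XΩ.nilradical.subschemeι := by
      rw [Scheme.IdealSheafData.range_subschemeι, Scheme.support_nilradical]
      trivial
    obtain ⟨z, rfl⟩ := hs
    exact ⟨z, hx⟩
  obtain ⟨e, he⟩ := NormUniv.exists_iso hnorm g _ hZne
  refine ⟨e, ?_⟩
  rw [← Category.assoc, he, hg]

end Groth.Agent.Curves.K323.NormBCMain
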