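import Groth.Agent.Curves.K323.GenusOneExt

/-!
# Normalized modules of rank two as extensions
-/

set_option autoImplicit false
universe u
open CategoryTheory CategoryTheory.Limits AlgebraicGeometry TopologicalSpace Opposite

namespace Groth.Agent.Curves.K323.NormExt

open Groth.Agent.CycB.StalkExact Groth.Agent.Curves.K323.SecLift Groth.Agent.Curves.K323

variable {X : Scheme.{u}}

/-- A section whose values are all nonzero is a monomorphism. -/
theorem mono_of_val {n : ℕ} {E : X.Modules} (hE : FlatMod.IsFinLocFreeOfRank n E)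
    (s : Coh.structureModule X ⟶ E)
    (h : ∀ x : X, val s x ∉ IsLocalRing.maximalIdeal (X.presheaf.stalk x) •
      (⊤ : Submodule (X.presheaf.stalk x) (E.presheaf.stalk x))) : Mono s := by
  refine VarietyB.ExactLoc.mono_of_stalk s fun x => ?_
  rw [injective_iff_map_eq_zero]
  intro t ht
  obtain ⟨a, rfl⟩ := (Fdesc.StructMod.stalkEquiv x).surjective t
  rw [stalkLin_stalkEquiv] at ht
  obtain ⟨U, hxU, ⟨e⟩⟩ := hE x
  obtain ⟨b⟩ := CurvesB.OmegaInv.nonempty_basis_stalk e x hxU
  obtain ⟨i, hi⟩ := LocAlg.exists_isUnit_repr b (val s x) (h x)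
  have h1 := congrArg (fun v => b.repr v i) ht
  simp only [map_smul, Finsupp.smul_apply, smul_eq_mul, map_zero, Finsupp.zero_apply] at h1
  rw [(hi.mul_left_eq_zero).mp h1, map_zero]

/-- A normalized module of rank two is an extension of an invertible module by `O`. -/
theorem exists_ext (k : Type u) [Field k] [PerfectField k] (X : Scheme.{u})
    [X.Over (Spec (CommRingCat.of k))]
    [IsIntegral X] [IsProper (X ↘ (Spec (CommRingCat.of k)))] (hdim : topologicalKrullDim X = 1)
    (hreg : ∀ x : X, IsRegularLocalRing (X.presheaf.stalk x))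
    (E : X.Modules) (hE : FlatMod.IsFinLocFreeOfRank 2 E) (hE0 : Nontrivial (Coh.HH X E 0))
    (hneg : ∀ M : X.Modules, PicF.IsInvertible M → Curv2.deg k X M 1 < 0 →
      Subsingleton (Coh.HH X (CohB1.tensorMod E M) 0)) :
    ∃ (N : X.Modules) (s : Coh.structureModule X ⟶ E) (p : E ⟶ N) (w : s ≫ p = 0),
      (ShortComplex.mk s p w).ShortExact ∧ PicF.IsInvertible N ∧
      Curv2.deg k X N 1 = Curv2.deg k X E 2 := by
  have := PtDeg.isNoetherian k X
  obtain ⟨s, hs⟩ := GenusOneExt.exists_section (not_subsingleton_iff_nontrivial.mpr hE0)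
  have hv := RankTwo.val_notMem k X hdim hreg E hE hneg s hs
  have hN := RankTwo.isInvertible_cokernel hE s hv
  have hm := mono_of_val hE s hv
  have hS : (ShortComplex.mk s (cokernel.π s) (cokernel.condition s)).ShortExact :=
    ShortComplex.ShortExact.mk (ShortComplex.exact_cokernel s)
  refine ⟨cokernel s, s, cokernel.π s, cokernel.condition s, hS, hN, ?_⟩
  have h := S1524.result k X _ hS (CurvesB.UnitCoh.isCoh_structureModule X) (RankTwo.isCoh_of_rank hE)
    (VarietyA.CurveFin.isCoh_of_isInvertible hN)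
  change Curv2.euler k X E = Curv2.euler k X (Coh.structureModule X) + Curv2.euler k X (cokernel s) at h
  rw [Curv2.deg, Curv2.deg, h]
  push_cast
  ring

end Groth.Agent.Curves.K323.NormExt
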