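import Groth.Agent.Curves.K323.NormBC
import Groth.Agent.Ega1.ReducedSub
import Groth.Agent.S1585
import Groth.Agent.S1536
import Mathlib.AlgebraicGeometry.Geometrically.Reduced

/-!
# Geometric irreducibility under modifications, reductions; global functions
-/

set_option autoImplicit false
universe u
open CategoryTheory CategoryTheory.Limits AlgebraicGeometry TopologicalSpace Opposite

namespace Groth.Agent.Curves.K323.NormGeo

open NormBC

section

variable {S T X Y : Scheme.{u}} (f : X ⟶ S) (ν : Y ⟶ X) (t : T ⟶ S)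

/-- The base change of `ν`. -/
noncomputable abbrev bcm : pullback (ν ≫ f) t ⟶ pullback f t :=
  pullback.map (ν ≫ f) t f t ν (𝟙 _) (𝟙 _)
    (Category.comp_id _) ((Category.comp_id _).trans (Category.id_comp _).symm)

theorem isPullback_bcm : IsPullback (pullback.fst (ν ≫ f) t) (bcm f ν t) ν (pullback.fst f t) := by
  have h1 := (IsPullback.of_hasPullback f t).flip
  have h2 := (IsPullback.of_hasPullback (ν ≫ f) t).flip
  refine (IsPullback.of_right ?_ ?_ h1).flip
  · have : bcm f ν t ≫ pullback.snd f t =
      pullback.snd (ν ≫ f) _ := (pullback.lift_snd _ _ _).trans (Category.comp_id _)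
    rw [this]
    exact h2
  · exact pullback.lift_fst _ _ _

/-- Irreducibility of base changes passes to modifications. -/
theorem irreducibleSpace_pullback [UniversallyOpen t] [Surjective t]
    [IrreducibleSpace ↥(pullback f t)] [IrreducibleSpace Y]
    (V : X.Opens) (hV : (V : Set X).Nonempty) [IsIso (ν ∣_ V)] :
    IrreducibleSpace ↥(pullback (ν ≫ f) t) := by
  have hp := isPullback_bcm f ν t
  have hpi : IsIso (bcm f ν t ∣_ (pullback.fst f t ⁻¹ᵁ V)) := isIso_restrict hp V
  have hWne : ((pullback.fst f t ⁻¹ᵁ V : (pullback f t).Opens) : Set ↥(pullback f t)).Nonempty := by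
    obtain ⟨x, hx⟩ := hV
    obtain ⟨y, rfl⟩ := (pullback.fst f t).surjective x
    exact ⟨y, hx⟩
  have hνV : ((ν ⁻¹ᵁ V : Y.Opens) : Set Y).Nonempty := by
    obtain ⟨x, hx⟩ := hV
    obtain ⟨y, hy⟩ := (ν ∣_ V).homeomorph.surjective ⟨x, hx⟩
    exact ⟨y.1, y.2⟩
  have hd : Dense ((bcm f ν t ⁻¹ᵁ (pullback.fst f t ⁻¹ᵁ V) : (pullback (ν ≫ f) t).Opens) :
      Set ↥(pullback (ν ≫ f) t)) := by
    have h1 : bcm f ν t ⁻¹ᵁ (pullback.fst f t ⁻¹ᵁ V) = pullback.fst (ν ≫ f) t ⁻¹ᵁ (ν ⁻¹ᵁ V) := by
      rw [← Scheme.Hom.comp_preimage, ← Scheme.Hom.comp_preimage, hp.w]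
    rw [h1]
    exact ((ν ⁻¹ᵁ V).isOpen.dense hνV).preimage (pullback.fst (ν ≫ f) t).isOpenMap
  exact irreducibleSpace_of_restrict (bcm f ν t) (pullback.fst f t ⁻¹ᵁ V) hWne hd

/-- Irreducibility of base changes passes to the reduction. -/
theorem irreducibleSpace_pullback_closed [IrreducibleSpace ↥(pullback f t)] [IsClosedImmersion ν]
    [Surjective ν] : IrreducibleSpace ↥(pullback (ν ≫ f) t) := by
  have hp := isPullback_bcm f ν t
  have h1 : IsClosedImmersion (bcm f ν t) := MorphismProperty.of_isPullback hp inferInstance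
  have h2 : Surjective (bcm f ν t) := MorphismProperty.of_isPullback hp inferInstance
  let e : ↥(pullback (ν ≫ f) t) ≃ₜ ↥(pullback f t) :=
    (bcm f ν t).isClosedEmbedding.toHomeomorphOfSurjective (bcm f ν t).surjective
  exact e.irreducibleSpace_iff.mpr inferInstance

end

section

variable (K : Type u) [Field K] {X Y : Scheme.{u}} (f : X ⟶ Spec (CommRingCat.of K)) (ν : Y ⟶ X)

theorem subsingleton_spec (L : Type u) [Field L] : Subsingleton (Spec (CommRingCat.of L)) :=
  inferInstanceAs (Subsingleton (PrimeSpectrum L))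

theorem surjective_spec {L : Type u} [Field L] (x : Spec (CommRingCat.of L) ⟶ Spec (CommRingCat.of K)) :
    Surjective x := by
  have := subsingleton_spec K
  exact ⟨fun y => ⟨IsLocalRing.closedPoint L, Subsingleton.elim _ _⟩⟩

theorem universallyOpen_spec {T : Scheme.{u}} (x : T ⟶ Spec (CommRingCat.of K)) :
    UniversallyOpen x := by
  have := subsingleton_spec K
  infer_instance

theorem geometricallyIrreducible_modification [GeometricallyIrreducible f] [IrreducibleSpace Y]
    (V : X.Opens) (hV : (V : Set X).Nonempty) [IsIso (ν ∣_ V)] : GeometricallyIrreducible (ν ≫ f) := by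
  refine ⟨geometrically_iff_of_isClosedUnderIsomorphisms.mpr fun L _ x ↦ ?_⟩
  have := surjective_spec K x
  have := universallyOpen_spec K x
  have := universallyOpen_spec K f
  have : IrreducibleSpace ↥(pullback f x) := inferInstance
  exact irreducibleSpace_pullback f ν x V hV

theorem geometricallyIrreducible_closed [GeometricallyIrreducible f] [IsClosedImmersion ν]
    [Surjective ν] : GeometricallyIrreducible (ν ≫ f) := by
  refine ⟨geometrically_iff_of_isClosedUnderIsomorphisms.mpr fun L _ x ↦ ?_⟩
  have := universallyOpen_spec K f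
  have : IrreducibleSpace ↥(pullback f x) := inferInstance
  exact irreducibleSpace_pullback_closed f ν x

theorem geometricallyReduced_of_smooth [Smooth f] : GeometricallyReduced f := by
  refine ⟨geometrically_iff_of_isClosedUnderIsomorphisms.mpr fun L _ x ↦ ?_⟩
  exact isReduced_of_smooth (pullback.snd f x)

theorem geometricallyConnected_of_irreducible [GeometricallyIrreducible f] :
    GeometricallyConnected f := by
  refine ⟨geometrically_iff_of_isClosedUnderIsomorphisms.mpr fun L _ x ↦ ?_⟩
  have := universallyOpen_spec K f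
  have : IrreducibleSpace ↥(pullback f x) := inferInstance
  infer_instance

end

end Groth.Agent.Curves.K323.NormGeo
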