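import Groth.Agent.Ega2.Normal
import Groth.Prelude.Def_Curv2

/-!
# Recognition of the normalization

An integral morphism `N → Z` of integral schemes, `N` normal, which is an isomorphism over a nonempty open
subset of `Z` is the normalization of `Z`.
-/

set_option autoImplicit false
universe u
open CategoryTheory CategoryTheory.Limits AlgebraicGeometry TopologicalSpace Opposite

namespace Groth.Agent.Curves.K323.NormUniv

theorem map_genericPoint {N Z : Scheme.{u}} [IsIntegral Z] [IsIntegral N] (g : N ⟶ Z)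
    (V : Z.Opens) (hV : (V : Set Z).Nonempty) [IsIso (g ∣_ V)] : g (genericPoint N) = genericPoint Z := by
  have h1 : IsGenericPoint (g (genericPoint N)) (closure (g '' Set.univ)) := by
    have h := (genericPoint_spec N).image g.continuous
    exact h
  have h2 : (V : Set Z) ⊆ Set.range g := by
    intro z hz
    have hs : Function.Surjective (g ∣_ V) := (g ∣_ V).homeomorph.surjective
    obtain ⟨y, hy⟩ := hs ⟨z, hz⟩
    refine ⟨(g ⁻¹ᵁ V).ι y, ?_⟩
    have h3 : ((g ∣_ V) ≫ V.ι) y = ((g ⁻¹ᵁ V).ι ≫ g) y := by rw [morphismRestrict_ι]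
    rw [Scheme.Hom.comp_apply, Scheme.Hom.comp_apply, hy] at h3
    exact h3.symm
  have h3 : closure (g '' Set.univ) = Set.univ := by
    rw [Set.image_univ, ← Set.univ_subset_iff]
    calc (Set.univ : Set Z) = closure (V : Set Z) := (V.isOpen.dense hV).closure_eq.symm
      _ ⊆ _ := closure_mono h2
  rw [h3] at h1
  exact h1.eq (genericPoint_spec Z)

theorem exists_lift_opens (Z : Scheme.{u}) [IsIntegral Z] (V : Z.Opens) (hV : genericPoint Z ∈ V) :
    ∃ l : Spec Z.functionField ⟶ (V : Scheme.{u}), l ≫ V.ι = Z.fromSpecStalk (genericPoint Z) := by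
  refine ⟨IsOpenImmersion.lift V.ι (Z.fromSpecStalk (genericPoint Z)) ?_, IsOpenImmersion.lift_fac _ _ _⟩
  rintro _ ⟨z, rfl⟩
  have := Groth.Agent.Ega2.Normal.subsingleton_spec_functionField Z
  have hz : z = IsLocalRing.closedPoint Z.functionField := Subsingleton.elim _ _
  subst hz
  rw [Scheme.Opens.range_ι]
  change Z.fromSpecStalk _ _ ∈ V
  rw [Scheme.fromSpecStalk_closedPoint]
  exact hV

/-- Recognition of the normalization. -/
theorem exists_iso {Z N : Scheme.{u}} [IsIntegral Z] [IsIntegral N] (hN : Pi1.IsNormalScheme N)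
    [QuasiCompact (Z.fromSpecStalk (genericPoint Z))] [QuasiSeparated (Z.fromSpecStalk (genericPoint Z))]
    (g : N ⟶ Z) [IsIntegralHom g] (V : Z.Opens) (hV : (V : Set Z).Nonempty) [IsIso (g ∣_ V)] :
    ∃ e : N ≅ Curv2.normalization Z, e.hom ≫ Curv2.normalizationι Z = g := by
  let f := Z.fromSpecStalk (genericPoint Z)
  have hη : genericPoint Z ∈ V :=
    ((genericPoint_spec Z).mem_open_set_iff V.isOpen).mpr (by simpa using hV)
  have hgen := map_genericPoint g V hV
  have hη' : genericPoint N ∈ g ⁻¹ᵁ V := by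
    change g (genericPoint N) ∈ V
    rw [hgen]; exact hη
  obtain ⟨l, hl⟩ := exists_lift_opens Z V hη
  obtain ⟨m, hm⟩ := exists_lift_opens N (g ⁻¹ᵁ V) hη'
  let s : Spec Z.functionField ⟶ N := l ≫ inv (g ∣_ V) ≫ (g ⁻¹ᵁ V).ι
  have hs : f = s ≫ g := by
    simp only [s, f, Category.assoc]
    rw [← morphismRestrict_ι, IsIso.inv_hom_id_assoc, hl]
  let a := f.normalizationDesc s g hs
  have ha : a ≫ g = f.fromNormalization := f.normalizationDesc_comp _ _ hs
  have ha' : f.toNormalization ≫ a = s := f.toNormalization_normalizationDesc _ _ hs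
  have hai : IsIntegralHom a := inferInstance
  have hint : IsIntegral f.normalization := inferInstance
  let q : Spec N.functionField ⟶ Spec Z.functionField :=
    Spec.map (g.stalkMap (genericPoint N)) ≫
      Spec.map (Z.presheaf.stalkSpecializes (specializes_of_eq hgen))
  have hq : q ≫ f = N.fromSpecStalk (genericPoint N) ≫ g := by
    simp only [q, f, Category.assoc]
    rw [Scheme.SpecMap_stalkSpecializes_fromSpecStalk, Scheme.SpecMap_stalkMap_fromSpecStalk]
  have hql : m ≫ (g ∣_ V) = q ≫ l := by
    rw [← cancel_mono V.ι, Category.assoc, Category.assoc, morphismRestrict_ι, hl, ← Category.assoc, hm]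
    exact hq.symm
  have hiso : IsIso a := by
    refine Groth.Agent.Ega2.Normal.isIso_of_functionField_section hN a (q ≫ f.toNormalization) ?_
    rw [Category.assoc, ha']
    simp only [s]
    rw [← Category.assoc, ← hql, Category.assoc, IsIso.hom_inv_id_assoc, hm]
  refine ⟨(asIso a).symm, ?_⟩
  change inv a ≫ f.fromNormalization = g
  rw [← ha, IsIso.inv_hom_id_assoc]

end Groth.Agent.Curves.K323.NormUniv
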