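import Groth.Agent.Curves.K319.VA
import Groth.Agent.Curves.K319.LinS
import Groth.Agent.CurvesB.VABaseChange
import Groth.Agent.CurvesB.VeryAmple
import Groth.Agent.Ega3A.PChart
import Groth.Agent.Vancyc.H878.RelOmega
import Groth.Agent.Surf.K455.RelDim
import Groth.Agent.CurvSt.K898.HZeroOne
import Groth.Agent.S1535

/-!
# Very ampleness and base change to an algebraically closed field

* `isVA_bc`: very ample modules stay very ample after a field extension.
* `isVA_of_bc`: descent from an algebraically closed field (for regular curves).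
* `isIntegral_bc`: a smooth proper curve with `h⁰(O) = 1` stays integral.
-/

set_option autoImplicit false
universe u

open CategoryTheory CategoryTheory.Limits AlgebraicGeometry TopologicalSpace IsLocalRing

namespace Groth.Agent.Curves.K323.OmegaBC

open Groth.Agent K319.VA K319.PicCD K319.PnSep K319.Setup K319.Base
open Groth.Agent.Dix.IdealModCartier K532.CurvePic
open Groth.Agent.Grpsch.PicGrp Groth.Agent.Fdesc.LocGen

variable {k : Type u} [Field k] {X : Scheme.{u}} [X.Over (Spec (CommRingCat.of k))]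
  {K : Type u} [Field K] [Algebra k K] {X' : Scheme.{u}} [X'.Over (Spec (CommRingCat.of K))] {p : X' ⟶ X}
  (H : IsPullback p (X' ↘ Spec (CommRingCat.of K)) (X ↘ Spec (CommRingCat.of k))
      (Spec.map (CommRingCat.ofHom (algebraMap k K))))

include H

theorem isVA_bc {L : X.Modules} (h : IsVA k X L) : IsVA K X' ((Scheme.Modules.pullback p).obj L) := by
  obtain ⟨n, i, hi, hik, ⟨e⟩⟩ := h
  have HP := CohqB.ProjBC.isPullback_pmap (algebraMap k K) n
  let j : X' ⟶ CohB1.ProjSpace n K := HP.lift (p ≫ i) (X' ↘ Spec (CommRingCat.of K))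
    (by rw [Category.assoc, hik]; exact H.w)
  have hj1 : j ≫ CohqB.ProjBC.pmap (algebraMap k K) n = p ≫ i := HP.lift_fst _ _ _
  have hj2 : j ≫ CohB1.ProjSpace.toSpec n K = X' ↘ Spec (CommRingCat.of K) := HP.lift_snd _ _ _
  have Hj : IsPullback p j i (CohqB.ProjBC.pmap (algebraMap k K) n) := by
    refine IsPullback.of_bot (h₃₁ := Spec.map (CommRingCat.ofHom (algebraMap k K)))
      (v₂₁ := CohB1.ProjSpace.toSpec n K) (v₂₂ := CohB1.ProjSpace.toSpec n k) ?_ hj1.symm HP
    rw [hj2, hik]
    exact H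
  refine ⟨n, j, MorphismProperty.of_isPullback Hj hi, hj2, ⟨?_⟩⟩
  exact (Scheme.Modules.pullback j).mapIso (Ega3A.PChart.pullTwistIso (algebraMap k K) n 1).symm ≪≫
    ((Scheme.Modules.pullbackComp j (CohqB.ProjBC.pmap (algebraMap k K) n)).app _) ≪≫
    ((Scheme.Modules.pullbackCongr hj1).app _) ≪≫
    ((Scheme.Modules.pullbackComp p i).app _).symm ≪≫ (Scheme.Modules.pullback p).mapIso e

theorem reg_bc [IsProper (X ↘ (Spec (CommRingCat.of k)))] [Smooth (X ↘ (Spec (CommRingCat.of k)))]
    [Algebra.IsAlgebraic k K] (hdX : topologicalKrullDim X = 1)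
    (h0 : Module.finrank k (Coh.HH X (Coh.structureModule X) 0) = 1) :
    IsProper (X' ↘ (Spec (CommRingCat.of K))) ∧ IsIntegral X' ∧ Reg X' := by
  have hprop : IsProper (X' ↘ (Spec (CommRingCat.of K))) := CurvesB.VABaseChange.isProper H
  have hsm : Smooth (X' ↘ (Spec (CommRingCat.of K))) := MorphismProperty.of_isPullback H inferInstance
  have hreg : ∀ x : X', IsRegularLocalRing (X'.presheaf.stalk x) := fun x => S1535.result K X' x
  have h0' := CurvesB.VABaseChange.finrank_structure_eq H 0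
  rw [h0] at h0'
  have hconn := K898.HZeroOne.connectedSpace_of_finrank K X' h0'
  have := isNoeth K X'
  refine ⟨hprop, K455.RelDim.isIntegral_of_regular hreg, ?_, hreg⟩
  rw [CurvesB.VABaseChange.topologicalKrullDim_eq H, hdX]

omit H in
theorem separates_of_isVA [IsAlgClosed K] [IsIntegral X'] [IsProper (X' ↘ (Spec (CommRingCat.of K)))]
    (hX : Reg X') {L : X'.Modules} (hL : PicF.IsInvertible L) (hVA : IsVA K X' L) :
    CurvesB.VeryAmple.Separates L := by
  have := isNoeth K X'
  refine ⟨fun y _ => NB_of_isVA K X' hVA y, ?_, ?_⟩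
  · intro x y hx hy hxy
    have h3 := NB_ideal_of_isVA K X' hX hL hVA ⟨x, hx⟩ ⟨y, hy⟩
    exact (NB_ideal_iff_of_ne x hx hL hxy.symm).mp h3
  · intro y hy J hJ
    have hE := isEff_I K X' hX.dim hX.reg y hy
    have h3 := NB_ideal_of_isVA K X' hX hL hVA ⟨y, hy⟩ ⟨y, hy⟩
    obtain ⟨V, hyV, e', s, a, he', ha, ham, ham2⟩ :=
      (NB_ideal_self_iff y hy hE hL (sq_ne K X' hX ⟨y, hy⟩)).mp h3
    refine ⟨V, hyV, e', s, a, he', ha, ham, fun hJa => ?_⟩
    -- `a` generates the maximal ideal
    have hd := isDVR K X' hX.dim hX.reg (ne_genericPoint hX.dim hy)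
    obtain ⟨ϖ, hϖ⟩ := IsDiscreteValuationRing.exists_irreducible (X'.presheaf.stalk y)
    rw [hϖ.maximalIdeal_eq, Ideal.mem_span_singleton] at ham
    obtain ⟨c, hc⟩ := ham
    have hcu : IsUnit c := by
      by_contra hcon
      apply ham2
      rw [hc, sq]
      refine Ideal.mul_mem_mul ?_ ((mem_maximalIdeal _).mpr hcon)
      rw [hϖ.maximalIdeal_eq]
      exact Ideal.mem_span_singleton_self _
    have : maximalIdeal (X'.presheaf.stalk y) ≤ J := by
      rw [hϖ.maximalIdeal_eq, Ideal.span_singleton_le_iff_mem]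
      rw [hc] at hJa
      exact (Ideal.mul_unit_mem_iff_mem _ hcu).mp hJa
    exact absurd hJ (not_lt_of_ge this)

/-- Very ampleness can be checked over an algebraically closed extension. -/
theorem isVA_iff_bc [IsAlgClosed K] [IsIntegral X'] [IsProper (X' ↘ (Spec (CommRingCat.of K)))]
    [IsProper (X ↘ (Spec (CommRingCat.of k)))]
    (hX : Reg X') {L : X.Modules} (hL : PicF.IsInvertible L) :
    IsVA k X L ↔ IsVA K X' ((Scheme.Modules.pullback p).obj L) := by
  refine ⟨isVA_bc H, fun h => ?_⟩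
  exact CurvesB.VeryAmple.of_separates H hL (separates_of_isVA hX (isInvertible_pullback _ hL) h)

omit H in
theorem IsVA.of_iso' {L M : X.Modules} (e : L ≅ M) (h : IsVA k X L) : IsVA k X M := by
  obtain ⟨n, i, hi, hik, ⟨e'⟩⟩ := h
  exact ⟨n, i, hi, hik, ⟨e' ≪≫ e⟩⟩

omit H in
/-- in genus at least one a class of degree two has at most two sections -/
theorem _root_.K319.CD.h_le_two {A : Type*} [AddCommGroup A] {pts : Type*} (C : K319.CD A pts) (hg : 1 ≤ C.g)
    (a : A) (ha : C.deg a = 2) : C.h a ≤ 2 := by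
  by_contra hcon
  have := C.infinite
  obtain ⟨x⟩ : Nonempty pts := inferInstance
  have h1 := C.h_le_succ a x
  obtain ⟨y, hy⟩ := C.exists_pt (a - C.p x) (by omega) (by rw [C.deg_sub_p, ha]; norm_num)
  have h2 := C.eq_zero (a - C.p x - C.p y) (by rw [C.deg_sub_p, C.deg_sub_p, ha]; norm_num) hy
  have h3 : a - C.p x = C.p y := sub_eq_zero.mp h2
  have h4 := C.h_p hg y
  rw [← h3] at h4
  omega

end Groth.Agent.Curves.K323.OmegaBC
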