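import Groth.Agent.Curves.K323.ExtLift
import Groth.Agent.Ega2.TensMon
import Groth.Agent.Sga67.TensorOps
import Groth.Agent.VarietyB.TensLoc

/-!
# Tensoring back, and a splitting criterion

For `N ⊗ M ≅ O`: `N ⊗ (M ⊗ E) ≅ E` naturally; a short exact sequence `0 → A → E → N' → 0` splits if
`H^1(M ⊗ A) = 0` and `M ⊗ N' ≅ O`.
-/

set_option autoImplicit false
universe u
open CategoryTheory CategoryTheory.Limits AlgebraicGeometry TopologicalSpace Opposite

namespace Groth.Agent.Curves.K323.TwistBack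

open Groth.Agent.VarietyA.EulerLES Groth.Agent.Dcoh.FinLocFree Groth.Agent.Ega2.Tens

variable {X : Scheme.{u}}

theorem mapT_eq_tmap (M : X.Modules) {N N' : X.Modules} (g : N ⟶ N') :
    mapT (𝟙 M) g = Sga67.ExtSheaf.tmap M g := by
  refine hom_ext _ _ fun U m n => ?_
  rw [mapT_tmul]
  exact (VarietyB.TensLoc.tensorBi_map_app_tmul M g m n).symm

/-- The short complex `M ⊗ S`. -/
noncomputable def twist (M : X.Modules) (S : ShortComplex X.Modules) : ShortComplex X.Modules :=
  ShortComplex.mk (mapT (𝟙 M) S.f) (mapT (𝟙 M) S.g) (by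
    rw [mapT_eq_tmap, mapT_eq_tmap]
    exact (Sga67.TensorOps.tensorShort M S).zero)

theorem twist_shortExact {M : X.Modules} (hM : FlatMod.IsFinLocFree M) {S : ShortComplex X.Modules}
    (hS : S.ShortExact) : (twist M S).ShortExact := by
  have h := Sga67.TensorOps.tensor_shortExact hM hS
  have e : twist M S = Sga67.TensorOps.tensorShort M S := by
    unfold twist Sga67.TensorOps.tensorShort
    congr 1
    · exact mapT_eq_tmap M S.f
    · exact mapT_eq_tmap M S.g
  rw [e]
  exact h

section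

variable {N M : X.Modules} (e : CohB1.tensorMod N M ≅ Coh.structureModule X)

/-- `N ⊗ (M ⊗ E) ≅ E` if `N ⊗ M ≅ O`. -/
noncomputable def back (E : X.Modules) : CohB1.tensorMod N (CohB1.tensorMod M E) ≅ E :=
  (assoc N M E).symm ≪≫ mapTIso e (Iso.refl E) ≪≫ lunit E

theorem back_naturality {E F : X.Modules} (g : E ⟶ F) :
    mapT (𝟙 N) (mapT (𝟙 M) g) ≫ (back e F).hom = (back e E).hom ≫ g := by
  refine hom_ext₃' _ _ fun U n m x => ?_
  obtain ⟨r, hr⟩ := exists_sm (e.hom.app U (tmul n m))
  have h1 : (back e F).hom.app U (tmul n (tmul m (g.app U x))) = r • g.app U x := by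
    change (lunit F).hom.app U ((mapT e.hom (𝟙 F)).app U ((assocInv N M F).app U
      (tmul n (tmul m (g.app U x))))) = _
    rw [assocInv_tmul, mapT_tmul, hr]
    exact lunit_hom_tmul r _
  have h2 : (back e E).hom.app U (tmul n (tmul m x)) = r • x := by
    change (lunit E).hom.app U ((mapT e.hom (𝟙 E)).app U ((assocInv N M E).app U
      (tmul n (tmul m x)))) = _
    rw [assocInv_tmul, mapT_tmul, hr]
    exact lunit_hom_tmul r _
  change (back e F).hom.app U ((mapT (𝟙 N) (mapT (𝟙 M) g)).app U (tmul n (tmul m x))) =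
    g.app U ((back e E).hom.app U (tmul n (tmul m x)))
  rw [mapT_tmul, mapT_tmul, h2, Scheme.Modules.Hom.app_smul]
  exact h1

include e in
/-- Splitting criterion. -/
theorem nonempty_splitting (S : ShortComplex X.Modules) (hS : S.ShortExact)
    (hM : FlatMod.IsFinLocFree M) (e' : Coh.structureModule X ≅ CohB1.tensorMod M S.X₃)
    (hH : Subsingleton (Coh.HH X (CohB1.tensorMod M S.X₁) 1)) : Nonempty S.Splitting := by
  have hT := twist_shortExact hM hS
  obtain ⟨t, ht'⟩ : ∃ t : Coh.structureModule X ⟶ CohB1.tensorMod M S.X₂,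
      t ≫ mapT (𝟙 M) S.g = e'.hom :=
    ExtLift.exists_lift_unit (twist M S) hT (fun a b _ => @Subsingleton.elim _ hH a b) e'.hom
  let α : CohB1.tensorMod N (Coh.structureModule X) ≅ S.X₃ :=
    mapTIso (Iso.refl N) e' ≪≫ back e S.X₃
  have := hS.mono_f
  refine ⟨ShortComplex.Splitting.ofExactOfSection S hS.exact
    (α.inv ≫ mapT (𝟙 N) t ≫ (back e S.X₂).hom) ?_ inferInstance⟩
  rw [Category.assoc, Category.assoc, ← back_naturality, ← Category.assoc (mapT (𝟙 N) t),
    ← mapT_comp, ht', Category.id_comp]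
  exact α.inv_hom_id

end

end Groth.Agent.Curves.K323.TwistBack
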